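/-
The stabiliser of two axes permutes two halves of a set of 780 lines.
-/
import Cfsg.Agent.Lib.RuLattice.Suborbits

set_option autoImplicit false
set_option maxRecDepth 100000

namespace CfsgLib.RuLattice

open Cfsg.Spor Finset

/-- Membership in the first half. -/
def inA (l : ℕ) : Bool := Nat.beq ((halfD >>> l) % 2) 1

/-- Membership in the two halves. -/
def inB (l : ℕ) : Bool := Nat.beq ((bothD >>> l) % 2) 1

/-- A word keeps the partition. -/
def keepW (w : List ℕ) : Bool :=
  (List.range 4060).all fun l => !(inB l) || (inB (wl w l) && (inA (wl w l) == (inA l == inA (wl w halfW))))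

theorem keep_ok : ((List.range 4).all fun k => (List.range 2).all fun g => keepW (gw (k + 2) g)) = true := by
  decide +kernel

theorem halfW_ok : halfW < 4060 ∧ inA halfW = true ∧ inB halfW = true := by decide +kernel

/-- The chosen line of the first half. -/
def w0L : Fin 4060 := ⟨halfW, halfW_ok.1⟩

/-- Whether an element keeps the halves. -/
noncomputable def fh (g : fourRu) : Bool := inA (g • w0L : Fin 4060)

/-- An element keeps the partition. -/
def Keeps (g : fourRu) : Prop :=
  ∀ l : Fin 4060, inB l = true → inB (g • l : Fin 4060) = true ∧ inA (g • l : Fin 4060) = (inA l == fh g)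

theorem keeps_one : Keeps 1 := fun l h => by
  rw [fh, one_smul, one_smul, show inA w0L = true from halfW_ok.2.1]
  exact ⟨h, by cases inA l <;> rfl⟩

theorem fh_mul {a b : fourRu} (ha : Keeps a) (hb : Keeps b) : fh (a * b) = (fh b == fh a) := by
  rw [fh, mul_smul]
  obtain ⟨h1, -⟩ := hb w0L halfW_ok.2.2
  rw [(ha _ h1).2]
  rfl

theorem keeps_mul {a b : fourRu} (ha : Keeps a) (hb : Keeps b) : Keeps (a * b) := by
  intro l h
  obtain ⟨h1, e1⟩ := hb l h
  obtain ⟨h2, e2⟩ := ha _ h1
  rw [mul_smul]
  refine ⟨h2, ?_⟩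
  rw [e2, e1, fh_mul ha hb]
  cases inA l <;> cases fh a <;> cases fh b <;> rfl

theorem wl_smul {w : List ℕ} (hw : letOK w = true) (l : Fin 4060) :
    ((wA w • l : Fin 4060) : ℕ) = wl w l := by
  obtain ⟨h1, h2⟩ := wl_spec hw l.2
  rw [ln_four] at h2
  rw [h2]
  show 4 * wl w l / 4 % 4060 = _
  omega

theorem keeps_word {w : List ℕ} (hw : letOK w = true) (h : keepW w = true) : Keeps (wA w) := by
  intro l hl
  simp only [keepW, List.all_eq_true, List.mem_range] at h
  have := h l l.2
  rw [hl, Bool.not_true, Bool.false_or, Bool.and_eq_true, beq_iff_eq] at this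
  refine ⟨by rw [wl_smul hw]; exact this.1, ?_⟩
  rw [wl_smul hw, fh, wl_smul hw]
  exact this.2

/-- The elements keeping the partition. -/
noncomputable def keepers : Subgroup fourRu :=
  subgroupOfMul {g | Keeps g} keeps_one fun _ ha _ hb => keeps_mul ha hb

theorem stabs_two_keeps {g : fourRu} (h : g ∈ stabs 2) : Keeps g := by
  refine stabs_le (P := keepers) (m := 2) (by norm_num) (by norm_num) (fun k g hk hk' hg => ?_) h
  rw [levGen_word hk hk' hg]
  obtain ⟨m, rfl⟩ : ∃ m, k = m + 2 := ⟨k - 2, by omega⟩
  have h1 := keep_ok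
  have h2 := genW_let
  simp only [List.all_eq_true, List.mem_range] at h1 h2
  exact keeps_word (let3_ok (h2 m (by omega) g hg)) (h1 m (by omega) g hg)

end CfsgLib.RuLattice
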