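/-
A homomorphism of order two on the stabiliser of the first axis.
-/
import Cfsg.Agent.Lib.RuLattice.Halves

set_option autoImplicit false
set_option maxRecDepth 100000

namespace CfsgLib.RuLattice

open Cfsg.Spor Finset

/-- The path to an entry of the first tree, as a word. -/
def pthW : ℕ → ℕ → List ℕ
  | 0, _ => []
  | n + 1, i => bif Nat.beq i 0 then [] else eG 1 i :: pthW n (eP 1 i)

/-- The word of a transversal element. -/
def pth (i : ℕ) : List ℕ := pthW 24 i

/-- The parity of a word in the second generator. -/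
def par : List ℕ → Bool
  | [] => true
  | k :: w => bif Nat.beq k 0 then par w else !(par w)

/-- The inverse of a letter. -/
def invK : ℕ → ℕ
  | 0 => 0
  | 1 => 2
  | _ => 1

/-- The inverse of a word. -/
def invW (w : List ℕ) : List ℕ := (w.map invK).reverse

/-- The place of a unit vector in the first tree. -/
def upos (v : ℕ) : ℕ := (unitPos >>> (12 * (v / 4))) % 4096

/-- One check of the cocycle. -/
def cocStep (g i : ℕ) : Bool :=
  let3 (pth i) && Nat.beq (wv (pth i) (bas 1)) (eT 1 i) && Nat.blt (upos (tv g (eT 1 i))) 2304 &&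
    Nat.beq (eT 1 (upos (tv g (eT 1 i)))) (tv g (eT 1 i)) &&
    ((inA (wl (invW (pth (upos (tv g (eT 1 i)))) ++ (g :: pth i)) halfW) == (par (pth i) == par (pth (upos (tv g (eT 1 i))))))
      == Nat.beq g 0)

theorem coc0_0 : chunk (cocStep 0) 2304 0 = true := by decide +kernel
theorem coc0_1 : chunk (cocStep 0) 2304 1 = true := by decide +kernel
theorem coc0_2 : chunk (cocStep 0) 2304 2 = true := by decide +kernel
theorem coc0_3 : chunk (cocStep 0) 2304 3 = true := by decide +kernel
theorem coc0_4 : chunk (cocStep 0) 2304 4 = true := by decide +kernel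
theorem coc0_5 : chunk (cocStep 0) 2304 5 = true := by decide +kernel
theorem coc0_6 : chunk (cocStep 0) 2304 6 = true := by decide +kernel
theorem coc0_7 : chunk (cocStep 0) 2304 7 = true := by decide +kernel
theorem coc0_8 : chunk (cocStep 0) 2304 8 = true := by decide +kernel
theorem coc1_0 : chunk (cocStep 1) 2304 0 = true := by decide +kernel
theorem coc1_1 : chunk (cocStep 1) 2304 1 = true := by decide +kernel
theorem coc1_2 : chunk (cocStep 1) 2304 2 = true := by decide +kernel
theorem coc1_3 : chunk (cocStep 1) 2304 3 = true := by decide +kernel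
theorem coc1_4 : chunk (cocStep 1) 2304 4 = true := by decide +kernel
theorem coc1_5 : chunk (cocStep 1) 2304 5 = true := by decide +kernel
theorem coc1_6 : chunk (cocStep 1) 2304 6 = true := by decide +kernel
theorem coc1_7 : chunk (cocStep 1) 2304 7 = true := by decide +kernel
theorem coc1_8 : chunk (cocStep 1) 2304 8 = true := by decide +kernel

theorem coc_ok {g : ℕ} (hg : g < 2) : (List.range 2304).all (cocStep g) = true := by
  refine all_of_chunks 9 (by norm_num) fun b hb => ?_
  interval_cases g <;> interval_cases b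
  · exact coc0_0
  · exact coc0_1
  · exact coc0_2
  · exact coc0_3
  · exact coc0_4
  · exact coc0_5
  · exact coc0_6
  · exact coc0_7
  · exact coc0_8
  · exact coc1_0
  · exact coc1_1
  · exact coc1_2
  · exact coc1_3
  · exact coc1_4
  · exact coc1_5
  · exact coc1_6
  · exact coc1_7
  · exact coc1_8

theorem coc_spec {g i : ℕ} (hg : g < 2) (hi : i < 2304) : let3 (pth i) = true ∧
    wv (pth i) (bas 1) = eT 1 i ∧ upos (tv g (eT 1 i)) < 2304 ∧
    eT 1 (upos (tv g (eT 1 i))) = tv g (eT 1 i) ∧
    ((inA (wl (invW (pth (upos (tv g (eT 1 i)))) ++ (g :: pth i)) halfW) ==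
      (par (pth i) == par (pth (upos (tv g (eT 1 i)))))) = Nat.beq g 0) := by
  have h := coc_ok hg
  simp only [List.all_eq_true, List.mem_range] at h
  have h := h i hi
  simp only [cocStep, Bool.and_eq_true, Nat.blt_eq, beq_iff_eq] at h
  exact ⟨h.1.1.1.1, Nat.eq_of_beq_eq_true h.1.1.1.2, h.1.1.2, Nat.eq_of_beq_eq_true h.1.2, h.2⟩

/-- A transversal element. -/
noncomputable def trv (i : ℕ) : fourRu := wA (pth i)

theorem trv_mem {i : ℕ} (hi : i < 2304) : trv i ∈ stabs 1 := by
  rw [stabs_one_eq]; exact wA_genAB (coc_spec (g := 0) (by norm_num) hi).1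

theorem trv_spec {i : ℕ} (hi : i < 2304) : app (trv i) (lvec (bas 1)) = lvec (eT 1 i) := by
  obtain ⟨h1, h2, -⟩ := coc_spec (g := 0) (by norm_num) hi
  rw [trv, (wv_spec (let3_ok h1) (bas_lt 1 (by norm_num))).2, h2]

theorem invK_spec : ∀ k < 3, eA (invK k) = (eA k)⁻¹ := by
  intro k hk
  interval_cases k
  · exact eq_inv_of_mul_eq_one_left levGen_sq
  · rfl
  · exact (inv_inv _).symm

theorem invW_spec : ∀ {w : List ℕ}, let3 w = true → wA (invW w) = (wA w)⁻¹ ∧ let3 (invW w) = true
  | [], _ => ⟨by simp [invW, wA], rfl⟩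
  | k :: w, h => by
    simp only [let3, List.all_cons, Bool.and_eq_true, Nat.blt_eq] at h
    obtain ⟨h1, h2⟩ := invW_spec (w := w) h.2
    have e : invW (k :: w) = invW w ++ [invK k] := by simp [invW]
    refine ⟨?_, ?_⟩
    · rw [e, wA_append, h1, show wA (k :: w) = eA k * wA w from List.prod_cons, mul_inv_rev,
        show wA [invK k] = eA (invK k) by simp [wA], invK_spec k h.1]
    · rw [e, let3, List.all_append, Bool.and_eq_true]
      refine ⟨h2, ?_⟩
      have := h.1
      interval_cases k <;> rfl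

theorem idx_exists {g : fourRu} (hg : g ∈ stabs 1) {i : ℕ} (hi : i < 2304) :
    ∃ j < 2304, app g (lvec (eT 1 i)) = lvec (eT 1 j) := by
  obtain ⟨j, hj, e⟩ := orbit_subset le_rfl (by norm_num) (mul_mem hg (trv_mem hi))
  rw [app_mul, trv_spec hi] at e
  exact ⟨j, hj, e⟩

theorem eT_inj {i j : ℕ} (hi : i < 2304) (hj : j < 2304) (h : lvec (eT 1 i) = lvec (eT 1 j)) : i = j := by
  have e := lvec_inj (tree_lt (k := 1) (by norm_num) hi) (tree_lt (k := 1) (by norm_num) hj) h
  have := unitPos_ok
  simp only [List.all_eq_true, List.mem_range] at this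
  rw [← Nat.eq_of_beq_eq_true (this i hi), ← Nat.eq_of_beq_eq_true (this j hj), e]

open Classical in
/-- The image of a place under an element. -/
noncomputable def idx (g : fourRu) (i : ℕ) : ℕ :=
  if h : g ∈ stabs 1 ∧ i < 2304 then (idx_exists h.1 h.2).choose else 0

theorem idx_spec {g : fourRu} (hg : g ∈ stabs 1) {i : ℕ} (hi : i < 2304) :
    idx g i < 2304 ∧ app g (lvec (eT 1 i)) = lvec (eT 1 (idx g i)) := by
  rw [idx, dif_pos ⟨hg, hi⟩]
  exact (idx_exists hg hi).choose_spec

theorem idx_mul {a b : fourRu} (ha : a ∈ stabs 1) (hb : b ∈ stabs 1) {i : ℕ} (hi : i < 2304) :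
    idx (a * b) i = idx a (idx b i) := by
  obtain ⟨h1, e1⟩ := idx_spec (mul_mem ha hb) hi
  obtain ⟨h2, e2⟩ := idx_spec hb hi
  obtain ⟨h3, e3⟩ := idx_spec ha h2
  refine eT_inj h1 h3 ?_
  rw [← e1, app_mul, e2, e3]

/-- The element of the stabiliser of two axes attached to an element and a place. -/
noncomputable def sch (g : fourRu) (i : ℕ) : fourRu := (trv (idx g i))⁻¹ * g * trv i

theorem sch_mem {g : fourRu} (hg : g ∈ stabs 1) {i : ℕ} (hi : i < 2304) : sch g i ∈ stabs 2 := by
  obtain ⟨h1, e1⟩ := idx_spec hg hi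
  intro t ht
  rcases (show t = 0 ∨ t = 1 by omega) with rfl | rfl
  · exact mul_mem (mul_mem (inv_mem (trv_mem h1)) hg) (trv_mem hi) 0 (by norm_num)
  · rw [sch, app_mul, app_mul, trv_spec hi, e1, ← trv_spec h1, ← app_mul, inv_mul_cancel, app_one]

/-- The sign of an element at a place. -/
noncomputable def sgnAt (g : fourRu) (i : ℕ) : Bool :=
  fh (sch g i) == (par (pth i) == par (pth (idx g i)))

theorem sgnAt_mul {a b : fourRu} (ha : a ∈ stabs 1) (hb : b ∈ stabs 1) {i : ℕ} (hi : i < 2304) :
    sgnAt (a * b) i = (sgnAt a (idx b i) == sgnAt b i) := by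
  have h2 := (idx_spec hb hi).1
  have e : sch (a * b) i = sch a (idx b i) * sch b i := by
    rw [sch, sch, sch, idx_mul ha hb hi]; group
  rw [sgnAt, sgnAt, sgnAt, e, fh_mul (stabs_two_keeps (sch_mem ha h2)) (stabs_two_keeps (sch_mem hb hi)),
    idx_mul ha hb hi]
  cases fh (sch a (idx b i)) <;> cases fh (sch b i) <;> cases par (pth i) <;> cases par (pth (idx b i)) <;>
    cases par (pth (idx a (idx b i))) <;> rfl

theorem sgnAt_one {i : ℕ} (hi : i < 2304) : sgnAt 1 i = true := by
  have e : idx 1 i = i := by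
    obtain ⟨h1, e1⟩ := idx_spec (one_mem (stabs 1)) hi
    rw [app_one] at e1
    exact (eT_inj hi h1 e1).symm
  have e' : sch 1 i = 1 := by rw [sch, e, mul_one, inv_mul_cancel]
  rw [sgnAt, e, e', fh, one_smul, show inA w0L = true from halfW_ok.2.1]
  cases par (pth i) <;> rfl

/-- The elements whose sign does not depend on the place. -/
noncomputable def constSign : Subgroup fourRu :=
  subgroupOfMul {g | g ∈ stabs 1 ∧ ∀ i < 2304, sgnAt g i = sgnAt g 0}
    ⟨one_mem _, fun i hi => by rw [sgnAt_one hi, sgnAt_one (by norm_num)]⟩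
    fun a ha b hb => ⟨mul_mem ha.1 hb.1, fun i hi => by
      rw [sgnAt_mul ha.1 hb.1 hi, sgnAt_mul ha.1 hb.1 (by norm_num), ha.2 _ (idx_spec hb.1 hi).1,
        ha.2 _ (idx_spec hb.1 (by norm_num)).1, hb.2 i hi]⟩

theorem sgnAt_gen {g i : ℕ} (hg : g < 2) (hi : i < 2304) : sgnAt (levGen 1 g) i = Nat.beq g 0 := by
  obtain ⟨h1, -, h3, h4, h5⟩ := coc_spec hg hi
  have hgm : levGen 1 g ∈ stabs 1 := levGen_mem le_rfl (by norm_num) hg
  obtain ⟨hv, ev⟩ := tv_spec hg (tree_lt (k := 1) (by norm_num) hi)
  have hidx : idx (levGen 1 g) i = upos (tv g (eT 1 i)) := by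
    obtain ⟨h6, e6⟩ := idx_spec hgm hi
    refine eT_inj h6 h3 ?_
    rw [← e6, ev, h4]
  set j := upos (tv g (eT 1 i)) with hj
  have hl : let3 (pth j) = true := (coc_spec (g := 0) (by norm_num) h3).1
  have hw : let3 (g :: pth i) = true := by
    simp only [let3, List.all_cons, Bool.and_eq_true, Nat.blt_eq] at h1 ⊢
    exact ⟨by omega, h1⟩
  obtain ⟨hi1, hi2⟩ := invW_spec hl
  have hsch : sch (levGen 1 g) i = wA (invW (pth j) ++ (g :: pth i)) := by
    rw [sch, hidx, wA_append, hi1, show wA (g :: pth i) = eA g * wA (pth i) from List.prod_cons,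
      show eA g = levGen 1 g by interval_cases g <;> rfl, mul_assoc]
    rfl
  have hlet : letOK (invW (pth j) ++ (g :: pth i)) = true := by
    refine let3_ok ?_
    rw [let3, List.all_append, Bool.and_eq_true]
    exact ⟨hi2, hw⟩
  rw [sgnAt, hidx, fh, hsch, wl_smul hlet]
  exact h5

theorem sgn_const {g : fourRu} (hg : g ∈ stabs 1) {i : ℕ} (hi : i < 2304) : sgnAt g i = sgnAt g 0 := by
  have h : stabs 1 ≤ constSign := by
    rw [stabs_one_eq, genAB, Subgroup.closure_le]
    rintro x (rfl | rfl)
    · exact ⟨levGen_mem le_rfl (by norm_num) (by norm_num),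
        fun i hi => by rw [sgnAt_gen (by norm_num) hi, sgnAt_gen (by norm_num) (by norm_num)]⟩
    · exact ⟨levGen_mem le_rfl (by norm_num) (by norm_num),
        fun i hi => by rw [sgnAt_gen (by norm_num) hi, sgnAt_gen (by norm_num) (by norm_num)]⟩
  exact (h hg).2 i hi

/-- The character of order two. -/
noncomputable def chi : stabs 1 →* Multiplicative (ZMod 2) where
  toFun g := if sgnAt g 0 then 1 else Multiplicative.ofAdd 1
  map_one' := by rw [if_pos]; exact sgnAt_one (by norm_num)
  map_mul' a b := by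
    rw [Subgroup.coe_mul, sgnAt_mul a.2 b.2 (by norm_num), sgn_const a.2 (idx_spec b.2 (by norm_num)).1]
    cases sgnAt a 0 <;> cases sgnAt b 0 <;> decide

/-- The first generator inside the stabiliser. -/
noncomputable def sA : stabs 1 := ⟨levGen 1 0, levGen_mem le_rfl (by norm_num) (by norm_num)⟩

/-- The second generator inside the stabiliser. -/
noncomputable def sB : stabs 1 := ⟨levGen 1 1, levGen_mem le_rfl (by norm_num) (by norm_num)⟩

theorem chi_sA : chi sA = 1 := by
  show (if sgnAt (levGen 1 0) 0 then _ else _) = _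
  rw [sgnAt_gen (by norm_num) (by norm_num)]; rfl

theorem chi_sB : chi sB = Multiplicative.ofAdd 1 := by
  show (if sgnAt (levGen 1 1) 0 then _ else _) = _
  rw [sgnAt_gen (by norm_num) (by norm_num)]; rfl

end CfsgLib.RuLattice
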