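/-
The stabiliser of the first axis on the 1755 lines orthogonal to it: faithful, with five suborbits.
-/
import Cfsg.Agent.Lib.RuLattice.Suborbits

set_option autoImplicit false
set_option maxRecDepth 100000

namespace CfsgLib.RuLattice

open Cfsg.Spor Finset

theorem small_iff {l : ℕ} (hl : l < 4060) : smallB l = true ↔ vnib (4 * l) 0 = 0 := by
  have key : ∀ x < 16, (x ≤ 4 ∨ x = 5) → rot 0 x = x := by decide +kernel
  have h := split_ok
  simp only [splitOK, List.all_eq_true, List.mem_range] at h
  have h' := h l hl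
  rw [vnib, show 4 * l % 4 = 0 by omega, show 4 * l / 4 = l by omega]
  rcases hs : smallB l with _ | _
  · rw [hs, cond_false, Bool.or_eq_true, Nat.ble_eq] at h'
    have h5 : nib (line l) 0 ≤ 4 ∨ nib (line l) 0 = 5 := by
      rcases h' with h' | h'
      · exact Or.inl h'
      · rw [Nat.eq_of_beq_eq_true h']; exact Or.inr (by decide +kernel)
    rw [key (nib (line l) 0) (Nat.mod_lt _ (by norm_num)) h5]
    simp only [Bool.false_eq_true, false_iff]
    intro e
    rw [smallB, e, Nat.beq_refl] at hs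
    simp at hs
  · rw [show nib (line l) 0 = 0 from Nat.eq_of_beq_eq_true hs]
    simp [rot]

theorem small_smul {g : fourRu} (hg : g ∈ stabs 1) (l : Fin 4060) (h : smallB l = true) :
    smallB (g • l : Fin 4060) = true := by
  have hl := l.2
  obtain ⟨j, hj, e⟩ := app_lvec g (show 4 * (l : ℕ) < 16240 by omega)
  obtain ⟨i, hi, e', -⟩ := app_phase g (show 4 * (l : ℕ) < 16240 by omega) hj e
  have h1 : (((g • l : Fin 4060)) : ℕ) = j / 4 := by
    have := smul_line (show 4 * (l : ℕ) < 16240 by omega) hj e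
    rw [ln_four] at this
    rw [this]; show j / 4 % 4060 = _; omega
  have hv : vnib j 0 = 0 := by
    have hh := app_herm g (lvec (bas 0)) (lvec (4 * (l : ℕ)))
    rw [hg 0 (by norm_num), e, coe_lvec (bas_lt 0 (by norm_num)), coe_lvec hj, coe_lvec (by omega),
      show bas 0 = 0 from by decide +kernel, herm_e0, herm_e0, vec_coord0, vec_coord0,
      (small_iff hl).1 h] at hh
    exact nv_inj _ (vnib_lt j 0) 0 (by norm_num) (mul_left_cancel₀ (by decide) hh)
  rw [h1, smallB, Nat.beq_eq]
  have key : ∀ c < 4, ∀ x < 16, (x ≤ 4 ∨ x = 5) → rot c x = 0 → x = 0 := by decide +kernel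
  rw [vnib] at hv
  refine key _ (Nat.mod_lt j (show 4 > 0 by norm_num)) _ (Nat.mod_lt _ (by norm_num)) ?_ hv
  have hs := split_ok
  simp only [splitOK, List.all_eq_true, List.mem_range] at hs
  have h' := hs (j / 4) (by omega)
  rcases hq : smallB (j / 4) with _ | _
  · rw [hq, cond_false, Bool.or_eq_true, Nat.ble_eq] at h'
    rcases h' with h' | h'
    · exact Or.inl h'
    · rw [Nat.eq_of_beq_eq_true h']; exact Or.inr (by decide +kernel)
  · exact Or.inl (by rw [show nib (line (j / 4)) 0 = 0 from Nat.eq_of_beq_eq_true hq]; norm_num)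

/-- The lines orthogonal to the first. -/
abbrev SmallL : Type := {l : Fin 4060 // smallB l = true}

noncomputable instance instActSmall : MulAction (stabs 1) SmallL where
  smul g x := ⟨(g : fourRu) • (x : Fin 4060), small_smul g.2 _ x.2⟩
  one_smul x := Subtype.ext (one_smul fourRu (x : Fin 4060))
  mul_smul a b x := Subtype.ext (mul_smul (a : fourRu) (b : fourRu) (x : Fin 4060))

theorem small_coe_smul (g : stabs 1) (x : SmallL) : ((g • x : SmallL) : Fin 4060) = (g : fourRu) • (x : Fin 4060) := rfl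

theorem sT_zero_lt : sT 0 < 4060 ∧ smallB (sT 0) = true := by decide +kernel

/-- The base point. -/
def sPt : SmallL := ⟨⟨sT 0, sT_zero_lt.1⟩, sT_zero_lt.2⟩

theorem small_transitive : MulAction.IsPretransitive (stabs 1) SmallL := by
  have key : ∀ x : SmallL, ∃ g : stabs 1, g • sPt = x := fun x => by
    obtain ⟨g, hg, e⟩ := small_orbit x.2
    refine ⟨⟨g, hg⟩, Subtype.ext ?_⟩
    show g • (⟨sT 0, _⟩ : Fin 4060) = _
    rw [← e, ← ln_four ⟨sT 0, sT_zero_lt.1⟩]
  refine ⟨fun x y => ?_⟩
  obtain ⟨a, ha⟩ := key x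
  obtain ⟨b, hb⟩ := key y
  exact ⟨b * a⁻¹, by rw [mul_smul, inv_smul_eq_iff.2 ha.symm, hb]⟩

/-- Four times the image of a vector, from the images of the axes. -/
theorem four_expand (g : fourRu) (v : ruLattice) :
    (4 : ℤ) • (app g v : RuVec) = ∑ q ∈ range 28, (v : RuVec) (pIdx q) • (app g (lvec (axV.getD q 0)) : RuVec) := by
  have hsum : (4 : ℤ) • v = ∑ q ∈ range 28, (⟨(v : RuVec) (pIdx q) • (lvec (axV.getD q 0) : RuVec),
      smul_mem_lattice (lvec _).2 _⟩ : ruLattice) := Subtype.ext (by
    rw [AddSubgroup.coe_zsmul, AddSubgroup.val_finsetSum, ← lin_ax, lin]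
    exact Finset.sum_congr rfl fun q hq =>
      congrArg (fun u => (v : RuVec) (pIdx q) • u) (coe_lvec (spanV_lt q (mem_range.1 hq)).2).symm)
  calc (4 : ℤ) • (app g v : RuVec) = appHom g ((4 : ℤ) • v) := (map_zsmul (appHom g) 4 v).symm
    _ = _ := by
      rw [hsum, map_sum]
      exact Finset.sum_congr rfl fun q _ => app_smul g _ _

theorem axis_codes : ((List.range 28).all fun q => Nat.beq (axV.getD q 0 % 4) 0 && (Nat.beq q 0 || smallB (axV.getD q 0 / 4)) &&
    (List.range 28).all fun p => Nat.beq (vnib (axV.getD q 0) p) (if Nat.beq p q then 5 else 0)) = true := by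
  decide +kernel

/-- A list of joins of coordinates is valid and gives the coordinates reached. -/
def connRun : List (ℕ × ℕ × ℕ) → List ℕ → Option (List ℕ)
  | [], acc => some acc
  | (l, q, o) :: r, acc =>
    if (acc.contains o && Nat.blt l 4060 && smallB l && Nat.blt q 28 && Nat.blt o 28 &&
      !(Nat.beq (vnib (4 * l) q) 0) && !(Nat.beq (vnib (4 * l) o) 0)) then connRun r (q :: acc) else none

theorem conn_ok : ((connRun connD [1]).getD []).length = 27 ∧
    ((List.range 27).all fun q => ((connRun connD [1]).getD []).contains (q + 1)) = true := by decide +kernel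

theorem connRun_spec (e : ℕ → GaussianInt)
    (h : ∀ l q o, l < 4060 → smallB l = true → q < 28 → o < 28 → vnib (4 * l) q ≠ 0 → vnib (4 * l) o ≠ 0 → e q = e o) :
    ∀ (r : List (ℕ × ℕ × ℕ)) (acc out : List ℕ), connRun r acc = some out → (∀ q ∈ acc, e q = e 1) →
      ∀ q ∈ out, e q = e 1
  | [], acc, out, he, ha => by
    simp only [connRun, Option.some.injEq] at he
    exact he ▸ ha
  | (l, q, o) :: r, acc, out, he, ha => by
    rw [connRun] at he
    split at he
    · rename_i hc
      simp only [Bool.and_eq_true, Nat.blt_eq, Bool.not_eq_true', List.contains_iff_mem] at hc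
      obtain ⟨⟨⟨⟨⟨⟨ho, hl⟩, hs⟩, hq⟩, ho'⟩, hq0⟩, ho0⟩ := hc
      refine connRun_spec e h r _ _ he fun q' hq' => ?_
      rcases List.mem_cons.1 hq' with rfl | hq'
      · rw [h l q' o hl hs hq ho' (fun c => by rw [c] at hq0; simp at hq0)
          (fun c => by rw [c] at ho0; simp at ho0)]
        exact ha o ho
      · exact ha q' hq'
    · simp at he

theorem no_twist : ((List.range 3).all fun m => (List.range 16240).all fun j =>
    !(Nat.beq (vnib j 0) 1 && (List.range 27).all fun q => Nat.beq (vnib j (q + 1)) (rot (m + 1) (vnib (bas 1) (q + 1))))) = true := by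
  decide +kernel

theorem nv_ne_zero : ∀ x < 9, x ≠ 0 → nv x ≠ 0 := by decide +kernel

theorem gI_pow_mod (n : ℕ) : gI ^ n = gI ^ (n % 4) := by
  conv_lhs => rw [← Nat.div_add_mod n 4, pow_add, pow_mul, gI_pow_four, one_pow, one_mul]

/-- Only the identity fixes every line orthogonal to the first. -/
theorem small_faithful {g : fourRu} (hg : g ∈ stabs 1) (h : ∀ l : Fin 4060, smallB l = true → g • l = l) : g = 1 := by
  have hax := axis_codes
  simp only [List.all_eq_true, List.mem_range, Bool.and_eq_true, Bool.or_eq_true] at hax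
  have himg : ∀ l, l < 4060 → smallB l = true → ∃ c, app g (lvec (4 * l)) = app (zI ^ c) (lvec (4 * l)) := by
    intro l hl hs
    obtain ⟨j, hj, e⟩ := app_lvec g (show 4 * l < 16240 by omega)
    have h1 := smul_line (show 4 * l < 16240 by omega) hj e
    rw [h _ (by show smallB (4 * l / 4 % 4060) = true; rwa [show 4 * l / 4 % 4060 = l by omega])] at h1
    have h2 := (ln_eq (show 4 * l < 16240 by omega) hj).1 h1
    refine ⟨j % 4, ?_⟩
    have := app_zI_pow_lvec (j % 4) hl (show 0 < 4 by norm_num)
    rw [Nat.add_zero] at this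
    rw [e, this]; congr 1; omega
  have hd : ∀ q, ∃ c, q < 28 → app g (lvec (axV.getD q 0)) = app (zI ^ c) (lvec (axV.getD q 0)) := by
    intro q
    by_cases hq : q < 28
    · obtain ⟨⟨h4, hs⟩, -⟩ := hax q hq
      rcases hs with hs | hs
      · rw [Nat.eq_of_beq_eq_true hs]
        refine ⟨0, fun _ => ?_⟩
        rw [pow_zero, app_one, show axV.getD 0 0 = bas 0 from by decide +kernel]
        exact hg 0 (by norm_num)
      · have hlt := (spanV_lt q hq).2
        obtain ⟨c, e⟩ := himg _ (show axV.getD q 0 / 4 < 4060 by omega) hs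
        rw [show 4 * (axV.getD q 0 / 4) = axV.getD q 0 by have := Nat.eq_of_beq_eq_true h4; omega] at e
        exact ⟨c, fun _ => e⟩
    · exact ⟨0, fun h => absurd h hq⟩
  choose d hd using hd
  set e : ℕ → GaussianInt := fun q => gI ^ d q with he
  have hcoord : ∀ (v : ruLattice) (p : ℕ), p < 28 → (app g v : RuVec) (pIdx p) = e p * (v : RuVec) (pIdx p) := by
    intro v p hp
    have h4 := congrFun (four_expand g v) (pIdx p)
    rw [Finset.sum_apply, Finset.sum_eq_single_of_mem p (mem_range.2 hp)] at h4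
    · obtain ⟨-, hc⟩ := hax p hp
      have hc := Nat.eq_of_beq_eq_true (hc p hp)
      rw [Nat.beq_refl, if_pos rfl] at hc
      rw [hd p hp, Pi.smul_apply, Pi.smul_apply, app_zI_pow, Pi.smul_apply, coe_lvec (spanV_lt p hp).2, vec_apply _ hp, hc,
        zsmul_eq_mul, smul_eq_mul, smul_eq_mul, show nv 5 = 4 from by decide +kernel] at h4
      refine mul_left_cancel₀ (show ((4 : ℤ) : GaussianInt) ≠ 0 by decide) ?_
      rw [h4]; simp only [he]; push_cast; ring
    · intro q hq hne
      obtain ⟨-, hc⟩ := hax q (mem_range.1 hq)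
      have hc := Nat.eq_of_beq_eq_true (hc p hp)
      rw [if_neg (fun c => hne (Nat.eq_of_beq_eq_true c).symm)] at hc
      rw [hd q (mem_range.1 hq), Pi.smul_apply, app_zI_pow, Pi.smul_apply, coe_lvec (spanV_lt q (mem_range.1 hq)).2,
        vec_apply _ hp, hc, show nv 0 = 0 from rfl, smul_zero, smul_zero]
  have hjoin : ∀ l q o, l < 4060 → smallB l = true → q < 28 → o < 28 → vnib (4 * l) q ≠ 0 → vnib (4 * l) o ≠ 0 →
      e q = e o := by
    intro l q o hl hs hq ho hq0 ho0
    obtain ⟨c, ec⟩ := himg l hl hs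
    have one : ∀ p < 28, vnib (4 * l) p ≠ 0 → e p = gI ^ c := by
      intro p hp hp0
      have := hcoord (lvec (4 * l)) p hp
      rw [ec, app_zI_pow, Pi.smul_apply, coe_lvec (by omega), vec_apply _ hp, smul_eq_mul] at this
      exact (mul_right_cancel₀ (nv_ne_zero _ (vnib_lt _ _) hp0) this).symm
    rw [one q hq hq0, one o ho ho0]
  have hall : ∀ q, 1 ≤ q → q < 28 → e q = e 1 := by
    intro q h1 hq
    obtain ⟨-, hm⟩ := conn_ok
    simp only [List.all_eq_true, List.mem_range, List.contains_iff_mem] at hm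
    have hm := hm (q - 1) (by omega)
    rw [show q - 1 + 1 = q by omega] at hm
    rcases hr : connRun connD [1] with _ | out
    · rw [hr] at hm; simp at hm
    · rw [hr] at hm
      exact connRun_spec e hjoin _ _ _ hr (by simp) q hm
  obtain ⟨b, hb, eb⟩ := app_lvec g (bas_lt 1 (by norm_num))
  have hu := (base_unit (k := 0) (by norm_num)).1
  have hb0 := unit_coord hg (bas_lt 1 (by norm_num)) hb hu eb
  have hm0 : d 1 % 4 = 0 := by
    by_contra hne
    have ht := no_twist
    simp only [List.all_eq_true, List.mem_range, Bool.not_eq_true'] at ht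
    have ht := ht (d 1 % 4 - 1) (by omega) b hb
    rw [hb0, Nat.beq_refl, Bool.true_and] at ht
    refine absurd ?_ (Bool.eq_false_iff.1 ht)
    simp only [List.all_eq_true, List.mem_range, Nat.beq_eq]
    intro q hq
    refine nv_inj _ (vnib_lt _ _) _ (rot_lt _ (by omega) _ ((vnib_lt _ _).trans (by norm_num))) ?_
    rw [show d 1 % 4 - 1 + 1 = d 1 % 4 by omega, nv_rot _ (Nat.mod_lt _ (by norm_num)) _ ((vnib_lt _ _).trans (by norm_num)),
      ← gI_pow_mod]
    have := hcoord (lvec (bas 1)) (q + 1) (by omega)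
    rw [eb, coe_lvec hb, coe_lvec (bas_lt 1 (by norm_num)), vec_apply _ (by omega), vec_apply _ (by omega),
      hall (q + 1) (by omega) (by omega)] at this
    exact this
  refine eq_one_of_lvec fun j hj => Subtype.ext (funext fun p => ?_)
  obtain ⟨q, hq, rfl⟩ : ∃ q < 28, pIdx q = p := ⟨ix p, ix_lt p, pIdx_ix p⟩
  rw [hcoord _ q hq]
  have : e q = 1 := by
    rcases Nat.eq_zero_or_pos q with rfl | h0
    · have h1 := hcoord e0 0 (by norm_num)
      rw [stabs_one_iff.1 hg, e0_eq_lvec, coe_lvec (by norm_num), vec_coord0] at h1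
      exact mul_right_cancel₀ (nv_ne_zero (vnib 0 0) (vnib_lt _ _) (by decide +kernel)) (by rw [one_mul]; exact h1.symm)
    · rw [hall q h0 hq, he]
      show gI ^ d 1 = 1
      rw [gI_pow_mod, hm0, pow_zero]
  rw [this, one_mul]

end CfsgLib.RuLattice
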