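/-
Centralisers in the automorphism group of the lattice from invariants of orbits of vectors.
-/
import Cfsg.Agent.Lib.RuLattice.Simplicity
import Cfsg.Agent.Lib.RuLattice.SmallAction
import Cfsg.Agent.Lib.RuLattice.OutData

set_option autoImplicit false
set_option maxRecDepth 100000

namespace CfsgLib.RuLattice

open Cfsg.Spor Finset

/-- A word as a permutation of the lines. -/
noncomputable def hE (w : List ℕ) : RuH := toH (wA w)

theorem hE_append (u w : List ℕ) : hE (u ++ w) = hE u * hE w := by rw [hE, wA_append, map_mul]; rfl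

theorem hE_rep (w : List ℕ) (n : ℕ) : hE (rep n w) = hE w ^ n := by rw [hE, wA_rep, map_pow]; rfl

theorem letOK_append {u w : List ℕ} (hu : letOK u = true) (hw : letOK w = true) : letOK (u ++ w) = true := by
  simp only [letOK, List.all_append, Bool.and_eq_true] at hu hw ⊢
  exact ⟨hu, hw⟩

/-- Two words agree on the lines of the spanning vectors. -/
def eqW (u w : List ℕ) : Bool :=
  letOK u && letOK w && (List.range 28).all fun t => Nat.beq (wl u (spanV.getD t 0 / 4)) (wl w (spanV.getD t 0 / 4))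

theorem toH_eq_one_of_lines {g : fourRu} (h : ∀ t < 28, g • ln (spanV.getD t 0) = ln (spanV.getD t 0)) :
    toH g = 1 := by
  have h0 : g • (0 : Fin 4060) = 0 := by
    have := h 0 (by norm_num)
    rwa [show spanV.getD 0 0 = 0 from by decide +kernel, ln_zero] at this
  obtain ⟨c, hc⟩ := fix_zero h0
  have h1 : zI ^ c * g = 1 := eq_one_of_lines hc fun t ht => by rw [mul_smul, h t ht, zI_fix]
  have hz : toH (zI ^ c) = 1 := Subtype.ext (Equiv.ext fun l => zI_fix c l)
  have := congrArg toH h1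
  rwa [map_mul, hz, one_mul, map_one] at this

theorem smul_word {w : List ℕ} (hw : letOK w = true) {j : ℕ} (hj : j < 16240) :
    wA w • ln j = ln (4 * wl w (j / 4)) := by
  obtain ⟨-, e⟩ := wl_spec hw (show j / 4 < 4060 by omega)
  rw [← e]; congr 1
  exact (ln_eq hj (by omega)).2 (by omega)

theorem eqW_spec {u w : List ℕ} (h : eqW u w = true) : hE u = hE w := by
  simp only [eqW, Bool.and_eq_true, List.all_eq_true, List.mem_range] at h
  refine (inv_mul_eq_one.1 ?_).symm
  rw [hE, hE, ← map_inv, ← map_mul]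
  refine toH_eq_one_of_lines fun t ht => ?_
  have hlt := (spanV_lt t ht).1
  rw [mul_smul, smul_word h.1.1 hlt, Nat.eq_of_beq_eq_true (h.2 t ht), ← smul_word h.1.2 hlt, inv_smul_smul]

theorem eqW_of_eq {u w : List ℕ} (hu : letOK u = true) (hw : letOK w = true) (e : hE u = hE w) : eqW u w = true := by
  simp only [eqW, hu, hw, Bool.true_and, List.all_eq_true, List.mem_range, Nat.beq_eq]
  intro t ht
  have hlt := (spanV_lt t ht).1
  have h1 : wA u • ln (spanV.getD t 0) = wA w • ln (spanV.getD t 0) := by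
    rw [← toH_smul, ← toH_smul]; exact congrArg (fun z : RuH => z • ln (spanV.getD t 0)) e
  rw [smul_word hu hlt, smul_word hw hlt] at h1
  have l1 := (wl_spec hu (show spanV.getD t 0 / 4 < 4060 by omega)).1
  have l2 := (wl_spec hw (show spanV.getD t 0 / 4 < 4060 by omega)).1
  have := (ln_eq (show 4 * wl u (spanV.getD t 0 / 4) < 16240 by omega) (by omega)).1 h1
  omega

theorem toH_eq_iff {a b : fourRu} (h : toH a = toH b) : ∃ n : ℕ, a = zI ^ n * b := by
  have : a * b⁻¹ ∈ Subgroup.center fourRu := by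
    rw [← ker_lineHom, MonoidHom.mem_ker, map_mul, map_inv]
    have : lineHom a = lineHom b := congrArg Subtype.val h
    rw [this, mul_inv_cancel]
  rw [center_eq, ← mem_powers_iff_mem_zpowers] at this
  obtain ⟨n, hn⟩ := this
  exact ⟨n, by rw [show zI ^ n = a * b⁻¹ from hn]; group⟩

/-- An element commuting modulo scalars with an element of odd projective order commutes with it. -/
theorem exact_comm {g x : fourRu} {p c : ℕ} (hx : x ^ p = zI ^ c) (hp : Nat.Coprime p 4)
    (h : toH g * toH x = toH x * toH g) : g * x = x * g := by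
  obtain ⟨n, hn⟩ := toH_eq_iff (show toH (g * x * g⁻¹) = toH x by rw [map_mul, map_mul, map_inv, h]; group)
  have hzc : Commute (zI ^ n) x := (Subgroup.mem_center_iff.1 (pow_mem zI_mem_center n) x).symm
  have h1 : (g * x * g⁻¹) ^ p = zI ^ c := by
    rw [conj_pow, hx, Subgroup.mem_center_iff.1 (pow_mem zI_mem_center c) g, mul_inv_cancel_right]
  rw [hn, hzc.mul_pow, hx] at h1
  have h2 : (zI ^ n) ^ p = 1 := mul_eq_right.1 h1
  have h3 : (zI ^ n) ^ 4 = 1 := by rw [← pow_mul, mul_comm, pow_mul, zI_pow_four, one_pow]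
  have h4 := pow_gcd_eq_one.2 ⟨h2, h3⟩
  rw [hp.gcd_eq_one, pow_one] at h4
  rw [h4, one_mul, mul_inv_eq_iff_eq_mul] at hn
  exact hn

/-- The vectors kept by an element. -/
noncomputable def keptBy (g : fourRu) : AddSubgroup RuVec where
  carrier := {v | ∃ h : v ∈ ruLattice, (app g ⟨v, h⟩ : RuVec) = v}
  zero_mem' := ⟨zero_mem _, map_zero (appHom g)⟩
  add_mem' := by
    rintro a b ⟨ha, ea⟩ ⟨hb, eb⟩
    refine ⟨add_mem ha hb, ?_⟩
    have := map_add (appHom g) ⟨a, ha⟩ ⟨b, hb⟩
    refine this.trans ?_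
    show (app g ⟨a, ha⟩ : RuVec) + (app g ⟨b, hb⟩ : RuVec) = a + b
    rw [ea, eb]
  neg_mem' := by
    rintro a ⟨ha, ea⟩
    refine ⟨neg_mem ha, ?_⟩
    refine (map_neg (appHom g) ⟨a, ha⟩).trans ?_
    show -(app g ⟨a, ha⟩ : RuVec) = -a
    rw [ea]

theorem kept_smul {g : fourRu} {v : RuVec} (h : v ∈ keptBy g) (c : GaussianInt) : c • v ∈ keptBy g := by
  obtain ⟨hv, e⟩ := h
  exact ⟨smul_mem_lattice hv c, (app_smul g c ⟨v, hv⟩).trans (congrArg (c • ·) e)⟩

theorem kept_lvec {g : fourRu} {j : ℕ} (hj : j < 16240) (h : app g (lvec j) = lvec j) : vec j ∈ keptBy g := by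
  refine ⟨vec_mem hj, ?_⟩
  rw [show (⟨vec j, vec_mem hj⟩ : ruLattice) = lvec j from Subtype.ext (coe_lvec hj).symm, h, coe_lvec hj]

/-- One coordinate of a combination of listed vectors. -/
def combC : List (ℤ × ℤ) → List ℕ → ℕ → ℤ × ℤ
  | c :: r, m :: ms, q =>
    (Int.add (Int.add (Int.mul c.1 (nvZ (vnib m q)).1) (Int.neg (Int.mul c.2 (nvZ (vnib m q)).2))) (combC r ms q).1,
      Int.add (Int.add (Int.mul c.1 (nvZ (vnib m q)).2) (Int.mul c.2 (nvZ (vnib m q)).1)) (combC r ms q).2)
  | _, _, _ => (0, 0)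

/-- A combination of listed vectors. -/
def combV : List (ℤ × ℤ) → List ℕ → RuVec
  | c :: r, m :: ms => (⟨c.1, c.2⟩ : GaussianInt) • vec m + combV r ms
  | _, _ => 0

theorem combC_spec : ∀ (r : List (ℤ × ℤ)) (ms : List ℕ) {q : ℕ}, q < 28 →
    combV r ms (pIdx q) = ⟨(combC r ms q).1, (combC r ms q).2⟩
  | [], _, _, _ => rfl
  | _ :: _, [], _, _ => rfl
  | c :: r, m :: ms, q, hq => by
    rw [combV, Pi.add_apply, Pi.smul_apply, combC_spec r ms hq, vec_apply _ hq, smul_eq_mul]
    ext <;> simp [combC, nvZ, show ∀ a : ℤ, Int.neg a = -a from fun _ => rfl, Zsqrtd.re_mul, Zsqrtd.im_mul,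
      Zsqrtd.re_add, Zsqrtd.im_add] <;> ring

theorem combV_mem {g : fourRu} : ∀ (r : List (ℤ × ℤ)) (ms : List ℕ), (∀ m ∈ ms, vec m ∈ keptBy g) →
    combV r ms ∈ keptBy g
  | [], _, _ => zero_mem _
  | _ :: _, [], _ => zero_mem _
  | _ :: r, _ :: ms, h => add_mem (kept_smul (h _ List.mem_cons_self) _)
      (combV_mem r ms fun m hm => h m (List.mem_cons_of_mem _ hm))

/-- The check that vectors span the axes. -/
def spanCert (D : ℤ) (C : List (List (ℤ × ℤ))) (ms : List ℕ) : Bool :=
  !(Nat.beq D.natAbs 0) && (List.range 28).all fun p => (List.range 28).all fun q =>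
    combC (C.getD p []) ms q == (Int.mul D (nvZ (vnib (axV.getD p 0) q)).1, Int.mul D (nvZ (vnib (axV.getD p 0) q)).2)

/-- An element keeping vectors spanning the axes is trivial. -/
theorem eq_one_of_cert {g : fourRu} {D : ℤ} {C : List (List (ℤ × ℤ))} {ms : List ℕ}
    (hc : spanCert D C ms = true) (h : ∀ m ∈ ms, m < 16240 ∧ app g (lvec m) = lvec m) : g = 1 := by
  simp only [spanCert, Bool.and_eq_true, List.all_eq_true, List.mem_range, Bool.not_eq_true', beq_iff_eq] at hc
  obtain ⟨hD, hc⟩ := hc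
  have hD0 : D ≠ 0 := fun e => by rw [e] at hD; simp at hD
  have hax : ∀ p < 28, app g (lvec (axV.getD p 0)) = lvec (axV.getD p 0) := by
    intro p hp
    have hlt := (spanV_lt p hp).2
    have e : combV (C.getD p []) ms = D • vec (axV.getD p 0) := by
      funext x
      obtain ⟨q, hq, rfl⟩ : ∃ q < 28, pIdx q = x := ⟨ix x, ix_lt x, pIdx_ix x⟩
      rw [combC_spec _ _ hq, hc p hp q hq, Pi.smul_apply, vec_apply _ hq, zsmul_eq_mul]
      ext <;> simp [nvZ, Zsqrtd.re_mul, Zsqrtd.im_mul]
    obtain ⟨hm, em⟩ := combV_mem (g := g) (C.getD p []) ms fun m hm => kept_lvec (h m hm).1 (h m hm).2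
    rw [show (⟨combV (C.getD p []) ms, hm⟩ : ruLattice) = D • lvec (axV.getD p 0) from
      Subtype.ext (by rw [AddSubgroup.coe_zsmul, coe_lvec hlt]; exact e), e] at em
    refine Subtype.ext (funext fun x => ?_)
    have h1 : (appHom g (D • lvec (axV.getD p 0))) x = (D • vec (axV.getD p 0)) x := congrFun em x
    rw [map_zsmul, Pi.smul_apply, Pi.smul_apply, zsmul_eq_mul, zsmul_eq_mul] at h1
    rw [coe_lvec hlt]
    exact mul_left_cancel₀ (Int.cast_ne_zero.2 hD0) h1
  refine Subtype.ext (Equiv.ext fun v => ?_)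
  show app g v = v
  refine Subtype.ext (four_smul_inj ?_)
  rw [four_expand g v]
  conv_rhs => rw [← lin_ax, lin]
  exact Finset.sum_congr rfl fun q hq => by
    rw [hax q (mem_range.1 hq), coe_lvec (spanV_lt q (mem_range.1 hq)).2]; rfl

theorem herm_lvec {g x : fourRu} (hc : g * x = x * g) {a b a' b' : ℕ} (ha : a < 16240) (hb : b < 16240) (ha' : a' < 16240)
    (hb' : b' < 16240) (e : app g (lvec a) = lvec a') (hx : app x (lvec a) = lvec b) (hx' : app x (lvec a') = lvec b') :
    hermC a' b' = hermC a b := by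
  refine hermC_congr ?_
  have h := app_herm g (lvec a) (lvec b)
  have e' : app g (lvec b) = lvec b' := by rw [← hx, ← app_mul, hc, app_mul, e, hx']
  rw [e, e', coe_lvec ha, coe_lvec hb, coe_lvec ha', coe_lvec hb'] at h
  exact h

/-- An element adjusted by a scalar so that it maps a vector to one with phase zero. -/
theorem phase_adjust (g : fourRu) {a : ℕ} (ha : a < 16240) :
    ∃ n l, l < 4060 ∧ app (zI ^ n * g) (lvec a) = lvec (4 * l) := by
  obtain ⟨j, hj, e⟩ := app_lvec g ha
  refine ⟨4 - j % 4, j / 4, by omega, ?_⟩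
  rw [app_mul, e]
  have := app_zI_pow_lvec (4 - j % 4) (show j / 4 < 4060 by omega) (Nat.mod_lt j (show 4 > 0 by norm_num))
  rw [Nat.div_add_mod] at this
  rw [this]; congr 1; omega

theorem toH_zI (n : ℕ) : toH (zI ^ n) = 1 := Subtype.ext (Equiv.ext fun l => zI_fix n l)

theorem zI_comm_pow (g : fourRu) (n : ℕ) : g * zI ^ n = zI ^ n * g :=
  Subgroup.mem_center_iff.1 (pow_mem zI_mem_center n) g

end CfsgLib.RuLattice
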