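/-
The centralisers of an element of order 29 and of an element of order 7.
-/
import Cfsg.Agent.Lib.RuLattice.OutDefs

set_option autoImplicit false
set_option maxRecDepth 100000

namespace CfsgLib.RuLattice

open Cfsg.Spor Finset

/-- The element of order 7. -/
def uW : List ℕ := hW ++ hW

/-- The invariant of a line against the first: equality for the first `n` powers of a word. -/
def sameInv (w : List ℕ) (n b : ℕ) (l : ℕ) : Bool :=
  (List.range n).all fun i => Nat.beq (hermC (4 * l) (wv (rep (i + 1) w) (4 * l))) (hermC b (wv (rep (i + 1) w) b))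

/-- The test of the scan for the element of order 29. -/
def xStep (l : ℕ) : Bool :=
  !(sameInv xW 14 0 l) || (List.range 29).any fun j => Nat.beq (wl (rep j xW) 0) l

/-- The test of the scan for the element of order 7. -/
def uStep (l : ℕ) : Bool :=
  !(sameInv uW 3 (4 * centP) l) || centL.any fun t => Nat.beq t l

theorem xs0 : chunk xStep 4060 0 = true := by decide +kernel
theorem xs1 : chunk xStep 4060 1 = true := by decide +kernel
theorem xs2 : chunk xStep 4060 2 = true := by decide +kernel
theorem xs3 : chunk xStep 4060 3 = true := by decide +kernel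
theorem xs4 : chunk xStep 4060 4 = true := by decide +kernel
theorem xs5 : chunk xStep 4060 5 = true := by decide +kernel
theorem xs6 : chunk xStep 4060 6 = true := by decide +kernel
theorem xs7 : chunk xStep 4060 7 = true := by decide +kernel
theorem xs8 : chunk xStep 4060 8 = true := by decide +kernel
theorem xs9 : chunk xStep 4060 9 = true := by decide +kernel
theorem xs10 : chunk xStep 4060 10 = true := by decide +kernel
theorem xs11 : chunk xStep 4060 11 = true := by decide +kernel
theorem xs12 : chunk xStep 4060 12 = true := by decide +kernel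
theorem xs13 : chunk xStep 4060 13 = true := by decide +kernel
theorem xs14 : chunk xStep 4060 14 = true := by decide +kernel
theorem xs15 : chunk xStep 4060 15 = true := by decide +kernel

theorem us0 : chunk uStep 4060 0 = true := by decide +kernel
theorem us1 : chunk uStep 4060 1 = true := by decide +kernel
theorem us2 : chunk uStep 4060 2 = true := by decide +kernel
theorem us3 : chunk uStep 4060 3 = true := by decide +kernel
theorem us4 : chunk uStep 4060 4 = true := by decide +kernel
theorem us5 : chunk uStep 4060 5 = true := by decide +kernel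
theorem us6 : chunk uStep 4060 6 = true := by decide +kernel
theorem us7 : chunk uStep 4060 7 = true := by decide +kernel
theorem us8 : chunk uStep 4060 8 = true := by decide +kernel
theorem us9 : chunk uStep 4060 9 = true := by decide +kernel
theorem us10 : chunk uStep 4060 10 = true := by decide +kernel
theorem us11 : chunk uStep 4060 11 = true := by decide +kernel
theorem us12 : chunk uStep 4060 12 = true := by decide +kernel
theorem us13 : chunk uStep 4060 13 = true := by decide +kernel
theorem us14 : chunk uStep 4060 14 = true := by decide +kernel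
theorem us15 : chunk uStep 4060 15 = true := by decide +kernel

theorem xScan : (List.range 4060).all xStep = true := by
  refine all_of_chunks 16 (by norm_num) fun b hb => ?_
  interval_cases b
  · exact xs0
  · exact xs1
  · exact xs2
  · exact xs3
  · exact xs4
  · exact xs5
  · exact xs6
  · exact xs7
  · exact xs8
  · exact xs9
  · exact xs10
  · exact xs11
  · exact xs12
  · exact xs13
  · exact xs14
  · exact xs15

theorem uScan : (List.range 4060).all uStep = true := by
  refine all_of_chunks 16 (by norm_num) fun b hb => ?_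
  interval_cases b
  · exact us0
  · exact us1
  · exact us2
  · exact us3
  · exact us4
  · exact us5
  · exact us6
  · exact us7
  · exact us8
  · exact us9
  · exact us10
  · exact us11
  · exact us12
  · exact us13
  · exact us14
  · exact us15

theorem x_pow29 : scalarW (rep 29 xW) 0 = true := by decide +kernel

/-- The seventh power of the element of order 7 is a scalar. -/
def u7Scalar : ℕ := (wv (rep 7 uW) 0) % 4

theorem u_pow7 : scalarW (rep 7 uW) u7Scalar = true := by decide +kernel

theorem words_ok : (letOK xW && letOK uW && letOK hW && letOK yW) = true ∧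
    ((List.range 14).all fun i => letOK (rep (i + 1) xW)) = true := by decide +kernel

theorem letOK_rep {w : List ℕ} (h : letOK w = true) : ∀ n, letOK (rep n w) = true
  | 0 => rfl
  | n + 1 => letOK_append h (letOK_rep h n)

theorem xW_let : letOK xW = true := by
  have h := words_ok.1; simp only [Bool.and_eq_true] at h; exact h.1.1.1

theorem uW_let : letOK uW = true := by
  have h := words_ok.1; simp only [Bool.and_eq_true] at h; exact h.1.1.2

theorem hW_let : letOK hW = true := by
  have h := words_ok.1; simp only [Bool.and_eq_true] at h; exact h.1.2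

theorem yW_let : letOK yW = true := by
  have h := words_ok.1; simp only [Bool.and_eq_true] at h; exact h.2

theorem xW_pow : wA xW ^ 29 = zI ^ 0 := by rw [← wA_rep]; exact scalarW_spec x_pow29

theorem uW_pow : wA uW ^ 7 = zI ^ u7Scalar := by rw [← wA_rep]; exact scalarW_spec u_pow7

/-- An element commuting with a word keeps the invariant. -/
theorem inv_of_comm {g : fourRu} {w : List ℕ} (hw : letOK w = true) (hc : g * wA w = wA w * g) {b l n : ℕ}
    (hb : b < 16240) (hl : l < 4060) (e : app g (lvec b) = lvec (4 * l)) : sameInv w n b l = true := by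
  simp only [sameInv, List.all_eq_true, List.mem_range, Nat.beq_eq]
  intro i _
  obtain ⟨h1, e1⟩ := wv_spec (letOK_rep hw (i + 1)) hb
  obtain ⟨h2, e2⟩ := wv_spec (letOK_rep hw (i + 1)) (show 4 * l < 16240 by omega)
  have hc' : g * wA (rep (i + 1) w) = wA (rep (i + 1) w) * g := by
    rw [wA_rep]; exact ((show Commute g (wA w) from hc).pow_right _).eq
  exact herm_lvec hc' hb h1 (by omega) h2 e e1 e2

/-- Spanning vectors of the element of order 29. -/
def spanXok : Bool :=
  spanCert spanXD spanXC spanXV &&
    ((List.range spanXV.length).all fun i => Nat.beq (spanXV.getD i 0) (wv (rep i xW) 0))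

theorem spanX_ok : spanXok = true := by decide +kernel

/-- An element commuting modulo scalars with the element of order 29 is one of its powers. -/
theorem cent_x {γ : RuH} (h : γ * hE xW = hE xW * γ) : ∃ i < 29, γ = hE xW ^ i := by
  obtain ⟨g, rfl⟩ := toH_surj γ
  have hc0 := exact_comm xW_pow (by norm_num) h
  obtain ⟨n, l, hl, e⟩ := phase_adjust g (show 0 < 16240 by norm_num)
  set g1 := zI ^ n * g with hg1
  have hc : g1 * wA xW = wA xW * g1 := by
    rw [hg1, mul_assoc, hc0, ← mul_assoc, ← zI_comm_pow, mul_assoc]
  have hs := xScan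
  simp only [List.all_eq_true, List.mem_range] at hs
  have hs := hs l hl
  rw [xStep, inv_of_comm xW_let hc (by norm_num) hl e, Bool.not_true, Bool.false_or, List.any_eq_true] at hs
  obtain ⟨j, hj, hjl⟩ := hs
  refine ⟨j, List.mem_range.1 hj, ?_⟩
  have hjl := Nat.eq_of_beq_eq_true hjl
  obtain ⟨hm, em⟩ := wv_spec (letOK_rep xW_let j) (show 0 < 16240 by norm_num)
  set g2 := (wA (rep j xW))⁻¹ * g1 with hg2
  have hc2 : g2 * wA xW = wA xW * g2 := by
    rw [hg2, wA_rep]
    exact (((Commute.pow_left (Commute.refl (wA xW)) j).inv_left).mul_left (show Commute g1 (wA xW) from hc)).eq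
  obtain ⟨n', l', hl', e'⟩ := phase_adjust g2 (show 0 < 16240 by norm_num)
  have hline : g2 • (0 : Fin 4060) = 0 := by
    have h1 : g1 • (0 : Fin 4060) = ln (4 * l) := smul_line (show 0 < 16240 by norm_num) (by omega) e
    have h2 : wA (rep j xW) • (0 : Fin 4060) = ln (4 * l) := by
      rw [← ln_zero, smul_word (letOK_rep xW_let j) (show 0 < 16240 by norm_num), show wl (rep j xW) (0 / 4) = l from hjl]
    rw [hg2, mul_smul, h1, ← h2, inv_smul_smul]
  have hl0 : l' = 0 := by
    have h3 := smul_line (show 0 < 16240 by norm_num) (by omega) e'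
    rw [ln_zero, mul_smul, hline, zI_fix, ← ln_zero] at h3
    have := (ln_eq (show 0 < 16240 by norm_num) (show 4 * l' < 16240 by omega)).1 h3
    omega
  subst hl0
  set g3 := zI ^ n' * g2 with hg3
  have hc3 : g3 * wA xW = wA xW * g3 := by
    rw [hg3, mul_assoc, hc2, ← mul_assoc, ← zI_comm_pow, mul_assoc]
  have hone : g3 = 1 := by
    have hsp := spanX_ok
    simp only [spanXok, Bool.and_eq_true, List.all_eq_true, List.mem_range, Nat.beq_eq] at hsp
    refine eq_one_of_cert hsp.1 fun m hm => ?_
    obtain ⟨i, hi, rfl⟩ := List.getElem_of_mem hm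
    rw [← List.getD_eq_getElem spanXV 0 hi, hsp.2 i hi]
    obtain ⟨hv, ev⟩ := wv_spec (letOK_rep xW_let i) (show 0 < 16240 by norm_num)
    refine ⟨hv, ?_⟩
    rw [← ev, ← app_mul, wA_rep, ((show Commute g3 (wA xW) from hc3).pow_right i).eq, app_mul]
    exact congrArg _ e'
  have := congrArg toH hone
  rw [hg3, hg2, hg1, map_mul, map_mul, map_mul, map_inv, toH_zI, toH_zI, one_mul, one_mul, map_one,
    inv_mul_eq_one] at this
  rw [← this, ← hE_rep]
  rfl

/-- The check of the class of the line for the element of order 7. -/
def centOK : Bool :=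
  Nat.beq centW.length 28 && Nat.beq centL.length 28 && Nat.blt centP 4060 &&
  ((List.range 7).all fun i => Nat.beq (centV.getD i 0) (wv (rep i uW) (4 * centP))) &&
  ((List.range 28).all fun j => Nat.blt (centL.getD j 0) 4060 && letOK (centW.getD j []) &&
    eqW (centW.getD j [] ++ uW) (uW ++ centW.getD j []) &&
    Nat.beq (wl (centW.getD j []) centP) (centL.getD j 0)) &&
  ((List.range 28).all fun a => (List.range 28).all fun b => (List.range 4).all fun c =>
    (Nat.beq a b && Nat.beq c 0) || !((List.range 7).all fun i =>
      Nat.beq (hermC (centV.getD i 0) (4 * centL.getD b 0 + c)) (hermC (centV.getD i 0) (4 * centL.getD a 0)))) &&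
  spanCert spanLD spanLC (centL.map fun t => 4 * t) && centL.contains centP

theorem cent_ok : centOK = true := by decide +kernel

/-- An element commuting modulo scalars with the element of order 7 is one of the listed words. -/
theorem cent_u {γ : RuH} (h : γ * hE uW = hE uW * γ) : ∃ j < 28, γ = hE (centW.getD j []) := by
  have hk := cent_ok
  simp only [centOK, Bool.and_eq_true, List.all_eq_true, List.mem_range, Nat.blt_eq, Bool.or_eq_true,
    Bool.not_eq_true', List.contains_iff_mem] at hk
  obtain ⟨⟨⟨⟨⟨⟨⟨hWlen, hLlen⟩, hP⟩, hV⟩, hW⟩, hkey⟩, hspan⟩, hPL⟩ := hk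
  have hLlen := Nat.eq_of_beq_eq_true hLlen
  have hscan := uScan
  simp only [List.all_eq_true, List.mem_range] at hscan
  have step : ∀ {g : fourRu}, g * wA uW = wA uW * g → ∀ {t l : ℕ}, t ∈ centL → t < 4060 → l < 4060 →
      app g (lvec (4 * t)) = lvec (4 * l) → sameInv uW 3 (4 * t) l = true :=
    fun hc t l _ ht hl e => inv_of_comm uW_let hc (by omega) hl e
  obtain ⟨g, rfl⟩ := toH_surj γ
  have hc0 := exact_comm uW_pow (by norm_num) h
  obtain ⟨n, l, hl, e⟩ := phase_adjust g (show 4 * centP < 16240 by omega)
  set g1 := zI ^ n * g with hg1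
  have hc : g1 * wA uW = wA uW * g1 := by
    rw [hg1, mul_assoc, hc0, ← mul_assoc, ← zI_comm_pow, mul_assoc]
  have hlL : l ∈ centL := by
    have hs := hscan l hl
    rw [uStep, step hc hPL hP hl e, Bool.not_true, Bool.false_or, List.any_eq_true] at hs
    obtain ⟨t, ht, e⟩ := hs
    exact Nat.eq_of_beq_eq_true e ▸ ht
  obtain ⟨j, hj, hjl⟩ := List.getElem_of_mem hlL
  rw [← List.getD_eq_getElem centL 0 hj] at hjl
  rw [hLlen] at hj
  refine ⟨j, hj, ?_⟩
  obtain ⟨⟨⟨hjlt, hwlet⟩, hwc⟩, hwl⟩ := hW j hj
  set W := centW.getD j [] with hWdef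
  have hWc : wA W * wA uW = wA uW * wA W :=
    exact_comm uW_pow (by norm_num) (by
      have := eqW_spec hwc
      rwa [hE_append, hE_append] at this)
  set g2 := (wA W)⁻¹ * g1 with hg2
  have hc2 : g2 * wA uW = wA uW * g2 :=
    ((show Commute (wA W) (wA uW) from hWc).inv_left.mul_left (show Commute g1 (wA uW) from hc)).eq
  obtain ⟨n', l', hl', e'⟩ := phase_adjust g2 (show 4 * centP < 16240 by omega)
  have hline : g2 • ln (4 * centP) = ln (4 * centP) := by
    have h1 : g1 • ln (4 * centP) = ln (4 * l) := smul_line (by omega) (by omega) e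
    have h2 : wA W • ln (4 * centP) = ln (4 * l) := by
      rw [smul_word hwlet (by omega), show 4 * centP / 4 = centP by omega, Nat.eq_of_beq_eq_true hwl, hjl]
    rw [hg2, mul_smul, h1, ← h2, inv_smul_smul]
  have hl0 : l' = centP := by
    have h3 := smul_line (show 4 * centP < 16240 by omega) (show 4 * l' < 16240 by omega) e'
    rw [mul_smul, hline, zI_fix] at h3
    have := (ln_eq (show 4 * centP < 16240 by omega) (show 4 * l' < 16240 by omega)).1 h3
    omega
  subst hl0
  set g3 := zI ^ n' * g2 with hg3
  have hc3 : g3 * wA uW = wA uW * g3 := by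
    rw [hg3, mul_assoc, hc2, ← mul_assoc, ← zI_comm_pow, mul_assoc]
  have hfixV : ∀ i < 7, centV.getD i 0 < 16240 ∧ app g3 (lvec (centV.getD i 0)) = lvec (centV.getD i 0) := by
    intro i hi
    rw [Nat.eq_of_beq_eq_true (hV i hi)]
    obtain ⟨hv, ev⟩ := wv_spec (letOK_rep uW_let i) (show 4 * centP < 16240 by omega)
    refine ⟨hv, ?_⟩
    rw [← ev, ← app_mul, wA_rep, ((show Commute g3 (wA uW) from hc3).pow_right i).eq, app_mul]
    exact congrArg _ e'
  have hone : g3 = 1 := by
    refine eq_one_of_cert hspan fun m hm => ?_
    obtain ⟨t, ht, rfl⟩ := List.mem_map.1 hm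
    obtain ⟨a, ha, hat⟩ := List.getElem_of_mem ht
    rw [← List.getD_eq_getElem centL 0 ha] at hat
    rw [hLlen] at ha
    have hta : t < 4060 := hat ▸ (hW a ha).1.1.1
    refine ⟨by omega, ?_⟩
    obtain ⟨m', hm', em'⟩ := app_lvec g3 (show 4 * t < 16240 by omega)
    -- the image has the invariant of the class, hence lies on one of its lines
    obtain ⟨k, l2, hl2, e2⟩ := phase_adjust g3 (show 4 * t < 16240 by omega)
    have hck : (zI ^ k * g3) * wA uW = wA uW * (zI ^ k * g3) := by
      rw [mul_assoc, hc3, ← mul_assoc, ← zI_comm_pow, mul_assoc]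
    have h4 := step hck ht hta hl2 e2
    have hl2L : l2 ∈ centL := by
      obtain ⟨⟨⟨-, hwlet'⟩, hwc'⟩, hwl'⟩ := hW a ha
      have hWc' : wA (centW.getD a []) * wA uW = wA uW * wA (centW.getD a []) :=
        exact_comm uW_pow (by norm_num) (by
          have := eqW_spec hwc'
          rwa [hE_append, hE_append] at this)
      obtain ⟨k3, l3, hl3, e3⟩ := phase_adjust ((zI ^ k * g3) * wA (centW.getD a [])) (show 4 * centP < 16240 by omega)
      have hcom : (zI ^ k3 * (zI ^ k * g3 * wA (centW.getD a []))) * wA uW =
          wA uW * (zI ^ k3 * (zI ^ k * g3 * wA (centW.getD a []))) :=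
        ((show Commute (zI ^ k3) (wA uW) from (zI_comm_pow _ _).symm).mul_left
          ((show Commute (zI ^ k * g3) (wA uW) from hck).mul_left hWc')).eq
      have hs := hscan l3 hl3
      rw [uStep, step hcom hPL hP hl3 e3, Bool.not_true, Bool.false_or, List.any_eq_true] at hs
      obtain ⟨t', ht', et'⟩ := hs
      have hl23 : l3 = l2 := by
        have h5 := smul_line (show 4 * centP < 16240 by omega) (show 4 * l3 < 16240 by omega) e3
        rw [mul_smul, zI_fix, mul_smul, smul_word hwlet' (by omega), show 4 * centP / 4 = centP by omega,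
          Nat.eq_of_beq_eq_true hwl', hat, smul_line (show 4 * t < 16240 by omega) (by omega) e2] at h5
        have := (ln_eq (show 4 * l2 < 16240 by omega) (show 4 * l3 < 16240 by omega)).1 h5
        omega
      exact hl23 ▸ (Nat.eq_of_beq_eq_true et' ▸ ht')
    obtain ⟨b, hb, hbl⟩ := List.getElem_of_mem hl2L
    rw [← List.getD_eq_getElem centL 0 hb] at hbl
    rw [hLlen] at hb
    have hdiv : m' / 4 = l2 := by
      have h5 := smul_line (show 4 * t < 16240 by omega) (show 4 * l2 < 16240 by omega) e2
      rw [mul_smul, zI_fix, smul_line (show 4 * t < 16240 by omega) hm' em'] at h5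
      have := (ln_eq hm' (show 4 * l2 < 16240 by omega)).1 h5
      omega
    have heq : ∀ i < 7, hermC (centV.getD i 0) m' = hermC (centV.getD i 0) (4 * t) := by
      intro i hi
      obtain ⟨hvi, evi⟩ := hfixV i hi
      refine hermC_congr ?_
      have h := app_herm g3 (lvec (centV.getD i 0)) (lvec (4 * t))
      rw [evi, em', coe_lvec hvi, coe_lvec hm', coe_lvec (show 4 * t < 16240 by omega)] at h
      exact h
    rcases hkey a ha b hb (m' % 4) (Nat.mod_lt _ (by norm_num)) with ⟨hab, hc0⟩ | hne
    · rw [em']
      have hab := Nat.eq_of_beq_eq_true hab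
      have hc0 := Nat.eq_of_beq_eq_true hc0
      subst hab
      rw [hat] at hbl
      congr 1; omega
    · exfalso
      have : ((List.range 7).all fun i => Nat.beq (hermC (centV.getD i 0) (4 * centL.getD b 0 + m' % 4))
          (hermC (centV.getD i 0) (4 * centL.getD a 0))) = true := by
        simp only [List.all_eq_true, List.mem_range, Nat.beq_eq]
        intro i hi
        rw [hbl, hat, show 4 * l2 + m' % 4 = m' by omega]
        exact heq i hi
      rw [this] at hne
      exact Bool.noConfusion hne
  have := congrArg toH hone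
  rw [hg3, hg2, hg1, map_mul, map_mul, map_mul, map_inv, toH_zI, toH_zI, one_mul, one_mul, map_one,
    inv_mul_eq_one] at this
  rw [← this]
  rfl

end CfsgLib.RuLattice
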