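/-
Identities between words used for the automorphisms.
-/
import Cfsg.Agent.Lib.RuLattice.OutDefs

set_option autoImplicit false
set_option maxRecDepth 100000

namespace CfsgLib.RuLattice

/-- The word of the square of the normalising element. -/
def u2W : List ℕ := hW ++ hW

/-- A word in the three elements and two inverses written out. -/
def expandW (w : List ℕ) : List ℕ :=
  w.flatMap fun k => [xW, rep 28 xW, hW, rep 13 hW, yW].getD k []

theorem rels_ok : (eqW (rep 29 xW) [] && !(eqW xW []) && eqW (hW ++ xW) (rep 4 xW ++ hW) && eqW (yW ++ u2W) (u2W ++ yW) &&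
    eqW (yW ++ yW) [] && eqW (rep 29 (xW ++ yW)) [] && !(eqW (rep 7 (xW ++ (u2W ++ yW))) []) &&
    eqW (rep 14 hW) []) = true := by decide +kernel

theorem genA_ok : eqW (expandW genA) [0] = true := by decide +kernel

theorem genB_ok : eqW (expandW genB) [0, 1] = true := by decide +kernel

/-- The test of one candidate. -/
def candY (k : ℕ) (w : List ℕ) : Bool :=
  !(eqW (w ++ w) [] && eqW (rep 29 (rep k xW ++ w)) [] && !(eqW (rep 7 (rep k xW ++ (u2W ++ w))) [])) ||
    (Nat.beq k 1 && eqW w yW)

theorem search_one : ((List.range 28).all fun j => candY 1 (centW.getD j [])) = true := by decide +kernel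

theorem search_two : ((List.range 28).all fun j => candY 2 (centW.getD j [])) = true := by decide +kernel

end CfsgLib.RuLattice
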