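/-
Every automorphism of Ru is inner.
-/
import Cfsg.Agent.Lib.RuLattice.OutCent
import Cfsg.Agent.Lib.RuLattice.OutChecks
import Cfsg.Prelude.Def_KGroupFacts

set_option autoImplicit false
set_option maxRecDepth 100000

namespace CfsgLib.RuLattice

open Cfsg.Spor

/-- The element of order 29. -/
noncomputable def X29 : RuH := hE xW

/-- The element of order 14. -/
noncomputable def H14 : RuH := hE hW

/-- The element of order 7. -/
noncomputable def U7 : RuH := hE uW

/-- The involution. -/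
noncomputable def Y2 : RuH := hE yW

theorem hE_nil : hE [] = 1 := map_one toH

theorem U7_eq : U7 = H14 * H14 := by rw [U7, uW, hE_append]; rfl

theorem u2_eq : hE u2W = U7 := rfl

theorem X29_pow : X29 ^ 29 = 1 := by
  have h := rels_ok
  simp only [Bool.and_eq_true] at h
  rw [X29, ← hE_rep, eqW_spec h.1.1.1.1.1.1.1, hE_nil]

theorem X29_ne : X29 ≠ 1 := by
  intro e
  have h := rels_ok
  simp only [Bool.and_eq_true, Bool.not_eq_true'] at h
  rw [eqW_of_eq xW_let rfl (e.trans hE_nil.symm)] at h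
  exact Bool.noConfusion h.1.1.1.1.1.1.2

theorem HX : H14 * X29 = X29 ^ 4 * H14 := by
  have h := rels_ok
  simp only [Bool.and_eq_true] at h
  rw [H14, X29, ← hE_rep, ← hE_append, ← hE_append]
  exact eqW_spec h.1.1.1.1.1.2

theorem YU : Y2 * U7 = U7 * Y2 := by
  have h := rels_ok
  simp only [Bool.and_eq_true] at h
  rw [← u2_eq, Y2, ← hE_append, ← hE_append]
  exact eqW_spec h.1.1.1.1.2

theorem HU : H14 * U7 = U7 * H14 := by rw [U7_eq, mul_assoc]

theorem orderOf_X29 : orderOf X29 = 29 := by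
  haveI : Fact (Nat.Prime 29) := ⟨by norm_num⟩
  exact orderOf_eq_prime X29_pow X29_ne

theorem X29_mod (m : ℕ) : X29 ^ m = X29 ^ (m % 29) := by rw [← pow_mod_orderOf, orderOf_X29]

theorem conj_pow_X {g : RuH} {m : ℕ} (h : g * X29 = X29 ^ m * g) (n : ℕ) : g * X29 ^ n * g⁻¹ = X29 ^ (m * n) := by
  rw [← conj_pow, h, mul_inv_cancel_right, ← pow_mul]

theorem UX : U7 * X29 = X29 ^ 16 * U7 := by
  have h1 := conj_pow_X HX 4
  rw [mul_inv_eq_iff_eq_mul] at h1
  rw [U7_eq, mul_assoc, HX, ← mul_assoc, h1, mul_assoc]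

theorem conj_H_pow (k : ℕ) : ∀ n, H14 ^ n * X29 ^ k * (H14 ^ n)⁻¹ = X29 ^ (k * 4 ^ n) := by
  intro n
  induction n with
  | zero => simp
  | succ n ih =>
    calc H14 ^ (n + 1) * X29 ^ k * (H14 ^ (n + 1))⁻¹ = H14 * (H14 ^ n * X29 ^ k * (H14 ^ n)⁻¹) * H14⁻¹ := by
          rw [pow_succ']; group
      _ = X29 ^ (4 * (k * 4 ^ n)) := by rw [ih, conj_pow_X HX]
      _ = _ := by ring_nf

theorem residual29 : ∀ k : Fin 29, k.1 ≠ 0 → ∃ n : Fin 14, k.1 * 4 ^ n.1 % 29 = 1 ∨ k.1 * 4 ^ n.1 % 29 = 2 := by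
  decide +kernel

/-- An automorphism, after an inner one, fixes the element of order 7 and sends that of order 29 to itself or its
square. -/
theorem normal_aut (α : MulAut RuH) :
    ∃ g : RuH, ∃ k, (k = 1 ∨ k = 2) ∧ (MulAut.conj g * α) U7 = U7 ∧ (MulAut.conj g * α) X29 = X29 ^ k := by
  classical
  haveI : Fact (Nat.Prime 29) := ⟨by norm_num⟩
  haveI : Finite RuH := Nat.finite_of_card_ne_zero (by rw [card_RuH]; norm_num)
  have hf : (145926144000 : ℕ).factorization 29 = 1 := by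
    rw [show (145926144000 : ℕ) = 29 ^ 1 * 5031936000 by norm_num, Nat.factorization_mul (by norm_num) (by norm_num),
      Finsupp.add_apply, Nat.Prime.factorization_pow (by norm_num), Finsupp.single_eq_same,
      Nat.factorization_eq_zero_of_not_dvd (by norm_num)]
  have hcard : ∀ z : RuH, orderOf z = 29 → Nat.card (Subgroup.zpowers z) = 29 ^ (Nat.card RuH).factorization 29 :=
    fun z hz => by rw [Nat.card_zpowers, hz, card_RuH, hf, pow_one]
  let S : Sylow 29 RuH := Sylow.ofCard _ (hcard X29 orderOf_X29)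
  let S' : Sylow 29 RuH := Sylow.ofCard _ (hcard (α X29) (by rw [MulEquiv.orderOf_eq, orderOf_X29]))
  obtain ⟨g, hg⟩ := MulAction.exists_smul_eq RuH S' S
  have hmem : g * α X29 * g⁻¹ ∈ (S : Subgroup RuH) := by
    rw [← hg, Sylow.smul_def, Sylow.pointwise_smul_def, Subgroup.mem_pointwise_smul_iff_inv_smul_mem]
    simpa [MulAut.smul_def, mul_assoc] using (show α X29 ∈ (S' : Subgroup RuH) from Subgroup.mem_zpowers _)
  have hmem' : g * α X29 * g⁻¹ ∈ Subgroup.zpowers X29 := hmem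
  rw [mem_zpowers_iff_mem_range_orderOf, Finset.mem_image] at hmem'
  obtain ⟨k, hk, hkX⟩ := hmem'
  rw [Finset.mem_range, orderOf_X29] at hk
  set β0 : MulAut RuH := MulAut.conj g * α with hβ0
  have h0 : β0 X29 = X29 ^ k := hkX.symm
  have hk0 : k ≠ 0 := fun e => by
    rw [e, pow_zero] at h0
    exact X29_ne (β0.injective (h0.trans (map_one β0).symm))
  obtain ⟨m, hm⟩ : ∃ m : Fin 29, k * m.1 % 29 = 1 :=
    (show ∀ k : Fin 29, k.1 ≠ 0 → ∃ m : Fin 29, k.1 * m.1 % 29 = 1 by decide +kernel) ⟨k, hk⟩ hk0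
  have hU : β0 U7 * X29 = X29 ^ 16 * β0 U7 := by
    have h := congrArg β0 UX
    rw [map_mul, map_mul, map_pow, h0, ← pow_mul] at h
    have h' : β0 U7 * X29 ^ k * (β0 U7)⁻¹ = X29 ^ (k * 16) := by rw [h, mul_inv_cancel_right]
    have h'' : β0 U7 * X29 * (β0 U7)⁻¹ = X29 ^ 16 := by
      calc β0 U7 * X29 * (β0 U7)⁻¹ = β0 U7 * (X29 ^ k) ^ m.1 * (β0 U7)⁻¹ := by
            rw [← pow_mul, X29_mod, hm, pow_one]
        _ = (X29 ^ (k * 16)) ^ m.1 := by rw [← conj_pow, h']
        _ = X29 ^ 16 := by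
            rw [← pow_mul, show k * 16 * m.1 = k * m.1 * 16 by ring, X29_mod, Nat.mul_mod, hm]
    rw [← h'', inv_mul_cancel_right]
  have hw : U7⁻¹ * β0 U7 * X29 = X29 * (U7⁻¹ * β0 U7) := by
    calc U7⁻¹ * β0 U7 * X29 = U7⁻¹ * (X29 ^ 16 * U7) * (U7⁻¹ * β0 U7) := by rw [mul_assoc U7⁻¹, hU]; group
      _ = X29 * (U7⁻¹ * β0 U7) := by rw [← UX]; group
  obtain ⟨i, -, hi⟩ := cent_x hw
  change U7⁻¹ * β0 U7 = X29 ^ i at hi
  have hUi : β0 U7 = X29 ^ (16 * i) * U7 := by
    have h := conj_pow_X UX i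
    rw [← h, inv_mul_cancel_right, ← hi, mul_inv_cancel_left]
  set g1 := X29 ^ (3 * i) * g with hg1
  set β1 : MulAut RuH := MulAut.conj g1 * α with hβ1
  have e1 : ∀ z, β1 z = X29 ^ (3 * i) * β0 z * (X29 ^ (3 * i))⁻¹ := fun z => by
    rw [hβ1, hβ0, hg1]
    show X29 ^ (3 * i) * g * α z * (X29 ^ (3 * i) * g)⁻¹ = X29 ^ (3 * i) * (g * α z * g⁻¹) * (X29 ^ (3 * i))⁻¹
    group
  have hb1U : β1 U7 = U7 := by
    have h := conj_pow_X UX (3 * i)
    rw [e1, hUi, mul_inv_eq_iff_eq_mul]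
    rw [mul_inv_eq_iff_eq_mul] at h
    rw [h, ← mul_assoc, ← pow_add, X29_mod, show (3 * i + 16 * i) % 29 = 16 * (3 * i) % 29 by omega, ← X29_mod]
  have hb1X : β1 X29 = X29 ^ k := by
    rw [e1, h0, (Commute.pow_pow_self X29 (3 * i) k).eq, mul_inv_cancel_right]
  obtain ⟨n, hn⟩ := residual29 ⟨k, hk⟩ hk0
  refine ⟨H14 ^ n.1 * g1, k * 4 ^ n.1 % 29, hn, ?_, ?_⟩
  · have e : (MulAut.conj (H14 ^ n.1 * g1) * α) U7 = H14 ^ n.1 * β1 U7 * (H14 ^ n.1)⁻¹ := by
      rw [hβ1]
      show H14 ^ n.1 * g1 * α U7 * (H14 ^ n.1 * g1)⁻¹ = H14 ^ n.1 * (g1 * α U7 * g1⁻¹) * (H14 ^ n.1)⁻¹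
      group
    rw [e, hb1U, (Commute.pow_left (show Commute H14 U7 from HU) n.1).eq, mul_inv_cancel_right]
  · have e : (MulAut.conj (H14 ^ n.1 * g1) * α) X29 = H14 ^ n.1 * β1 X29 * (H14 ^ n.1)⁻¹ := by
      rw [hβ1]
      show H14 ^ n.1 * g1 * α X29 * (H14 ^ n.1 * g1)⁻¹ = H14 ^ n.1 * (g1 * α X29 * g1⁻¹) * (H14 ^ n.1)⁻¹
      group
    rw [e, hb1X, conj_H_pow, X29_mod]

theorem centW_let {j : ℕ} (hj : j < 28) : letOK (centW.getD j []) = true := by
  have hk := cent_ok
  simp only [centOK, Bool.and_eq_true, List.all_eq_true, List.mem_range] at hk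
  exact (hk.1.1.1.2 j hj).1.1.2

theorem image_xy {β : MulAut RuH} {k : ℕ} (hk : k = 1 ∨ k = 2) (hU : β U7 = U7) (hX : β X29 = X29 ^ k) :
    k = 1 ∧ β Y2 = Y2 := by
  have hc : β Y2 * U7 = U7 * β Y2 := by
    conv_lhs => rw [← hU]
    conv_rhs => rw [← hU]
    rw [← map_mul, ← map_mul, YU]
  obtain ⟨j, hj, e⟩ := cent_u hc
  have hw := centW_let hj
  set w := centW.getD j [] with hwdef
  have hxk : letOK (rep k xW) = true := letOK_rep xW_let k
  have hu2 : letOK u2W = true := uW_let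
  have hr := rels_ok
  simp only [Bool.and_eq_true, Bool.not_eq_true'] at hr
  obtain ⟨⟨⟨⟨-, r2⟩, r29⟩, r7⟩, -⟩ := hr
  have hkey : candY k w = true := by
    have h1 := search_one
    have h2 := search_two
    simp only [List.all_eq_true, List.mem_range] at h1 h2
    rcases hk with rfl | rfl
    · exact h1 j hj
    · exact h2 j hj
  have e1 : eqW (w ++ w) [] = true := eqW_of_eq (letOK_append hw hw) rfl (by
    rw [hE_append, ← e, ← map_mul, Y2, ← hE_append, eqW_spec r2, hE_nil, map_one])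
  have e2 : eqW (rep 29 (rep k xW ++ w)) [] = true := eqW_of_eq (letOK_rep (letOK_append hxk hw) _) rfl (by
    have := congrArg β (eqW_spec r29)
    rw [hE_nil, map_one, hE_rep, hE_append, map_pow, map_mul, show β (hE xW) = X29 ^ k from hX,
      show hE yW = Y2 from rfl, e, X29, ← hE_rep, ← hE_append, ← hE_rep] at this
    rw [this, hE_nil])
  have e3 : eqW (rep 7 (rep k xW ++ (u2W ++ w))) [] = false := by
    rw [← Bool.not_eq_true]
    intro hs
    have h7 := eqW_spec hs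
    rw [hE_nil, hE_rep, hE_append, hE_append, ← e, u2_eq, hE_rep, show hE xW = X29 from rfl, ← hX] at h7
    conv_lhs at h7 => rw [← hU, ← map_mul, ← map_mul, ← map_pow]
    have h8 := β.injective (h7.trans (map_one β).symm)
    rw [X29, ← u2_eq, Y2, ← hE_append, ← hE_append, ← hE_rep] at h8
    have := eqW_of_eq (letOK_rep (letOK_append xW_let (letOK_append hu2 yW_let)) 7) rfl (h8.trans hE_nil.symm)
    rw [this] at r7
    exact Bool.noConfusion r7
  rw [candY, e1, e2, e3] at hkey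
  simp only [Bool.and_self, Bool.not_false, Bool.not_true, Bool.false_or, Bool.and_eq_true] at hkey
  exact ⟨Nat.eq_of_beq_eq_true hkey.1, e.trans (eqW_spec hkey.2)⟩

theorem image_H {β : MulAut RuH} (hU : β U7 = U7) (hX : β X29 = X29) : β H14 = H14 := by
  have hw : H14⁻¹ * β H14 * X29 = X29 * (H14⁻¹ * β H14) := by
    have h := congrArg β HX
    rw [map_mul, map_mul, map_pow, hX] at h
    calc H14⁻¹ * β H14 * X29 = H14⁻¹ * (X29 ^ 4 * H14) * (H14⁻¹ * β H14) := by rw [mul_assoc H14⁻¹, h]; group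
      _ = X29 * (H14⁻¹ * β H14) := by rw [← HX]; group
  obtain ⟨i, hi, e⟩ := cent_x hw
  change H14⁻¹ * β H14 = X29 ^ i at e
  have hc : β H14 * U7 = U7 * β H14 := by
    conv_lhs => rw [← hU]
    conv_rhs => rw [← hU]
    rw [← map_mul, ← map_mul, HU]
  have h1 : X29 ^ i * U7 = U7 * X29 ^ i := by
    rw [← e, mul_assoc, hc, ← mul_assoc, ← mul_assoc, (Commute.inv_left (show Commute H14 U7 from HU)).eq]
  have h2 := conj_pow_X UX i
  rw [← h1, mul_inv_cancel_right] at h2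
  rw [X29_mod (16 * i)] at h2
  have h3 : i = 16 * i % 29 := pow_injOn_Iio_orderOf (by rw [Set.mem_Iio, orderOf_X29]; exact hi)
    (by rw [Set.mem_Iio, orderOf_X29]; omega) h2
  have : i = 0 := by omega
  subst this
  rw [pow_zero, inv_mul_eq_one] at e
  exact e.symm

theorem expandW_nil : expandW [] = [] := rfl

theorem expand_fixed {β : MulAut RuH} (hX : β X29 = X29) (hH : β H14 = H14) (hY : β Y2 = Y2) :
    ∀ w, β (hE (expandW w)) = hE (expandW w) := by
  intro w
  induction w with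
  | nil => rw [expandW_nil, hE_nil, map_one]
  | cons k t ih =>
    show β (hE ([xW, rep 28 xW, hW, rep 13 hW, yW].getD k [] ++ expandW t)) = _
    rw [hE_append, map_mul, ih]
    show _ = hE ([xW, rep 28 xW, hW, rep 13 hW, yW].getD k [] ++ expandW t)
    rw [hE_append]
    congr 1
    match k with
    | 0 => exact hX
    | 1 => show β (hE (rep 28 xW)) = hE (rep 28 xW); rw [hE_rep, map_pow, show β (hE xW) = hE xW from hX]
    | 2 => exact hH
    | 3 => show β (hE (rep 13 hW)) = hE (rep 13 hW); rw [hE_rep, map_pow, show β (hE hW) = hE hW from hH]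
    | 4 => exact hY
    | n + 5 => exact (congrArg β hE_nil).trans ((map_one β).trans hE_nil.symm)

theorem orbit_two : smallB (wl (rep 1 xW) 0) = false ∧ smallB (wl (rep 2 xW) 0) = true ∧
    wl (rep 1 xW) 0 < 4060 ∧ wl (rep 2 xW) 0 < 4060 ∧ wl (rep 1 xW) 0 ≠ 0 ∧ wl (rep 2 xW) 0 ≠ 0 := by decide +kernel

/-- A subgroup containing the elements of the stabiliser and the element of order 29 is everything. -/
theorem eq_top_of_gens (K : Subgroup RuH) (hA : hE [0] ∈ K) (hB : hE [0, 1] ∈ K) (hX : X29 ∈ K) : K = ⊤ := by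
  have hb : hE [1] ∈ K := by
    rw [show [0, 1] = [0] ++ [1] from rfl, hE_append] at hB
    exact (Subgroup.mul_mem_cancel_left K hA).1 hB
  have hstab : stabs 1 ≤ K.comap toH := by
    rw [stabs_one_eq, genAB, Subgroup.closure_le]
    rintro x (rfl | rfl)
    · show toH (levGen 1 0) ∈ K
      simpa [hE, wA, eA] using hA
    · show toH (levGen 1 1) ∈ K
      simpa [hE, wA, eA] using hb
  obtain ⟨b1, b2, l1, l2, n1, n2⟩ := orbit_two
  have hreach : ∀ i, (hE (rep i xW) : RuH) • (0 : Fin 4060) = ln (4 * wl (rep i xW) 0) := by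
    intro i
    rw [hE, toH_smul, ← ln_zero]
    exact smul_word (letOK_rep xW_let i) (by norm_num)
  have hmemX : ∀ i, hE (rep i xW) ∈ K := fun i => by rw [hE_rep]; exact pow_mem hX i
  have htr : ∀ l : Fin 4060, ∃ k ∈ K, k • (0 : Fin 4060) = l := by
    intro l
    by_cases h0 : l = 0
    · exact ⟨1, one_mem _, by rw [one_smul, h0]⟩
    have aux : ∀ i (h : wl (rep i xW) 0 < 4060), wl (rep i xW) 0 ≠ 0 → smallB (wl (rep i xW) 0) = smallB l →
        ∃ k ∈ K, k • (0 : Fin 4060) = l := by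
      intro i h hne hs
      obtain ⟨g, hg, e⟩ := same_suborbit (x := ⟨_, h⟩) (fun c => hne (congrArg Fin.val c)) h0 hs
      refine ⟨toH g * hE (rep i xW), mul_mem (hstab hg) (hmemX i), ?_⟩
      rw [mul_smul, hreach, toH_smul, ← e]
      congr 1
      exact ln_four ⟨_, h⟩
    rcases hs : smallB l with _ | _
    · exact aux 1 l1 n1 (b1.trans hs.symm)
    · exact aux 2 l2 n2 (b2.trans hs.symm)
  refine eq_top_iff.2 fun h _ => ?_
  obtain ⟨n, hn, e⟩ := htr (h • 0)
  obtain ⟨⟨g, hg⟩, hg'⟩ := stabHom_bij.2 ⟨n⁻¹ * h, by rw [MulAction.mem_stabilizer_iff, mul_smul, ← e, inv_smul_smul]⟩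
  have : n⁻¹ * h ∈ K := by
    rw [show n⁻¹ * h = toH g from (congrArg Subtype.val hg').symm]
    exact hstab hg
  simpa using mul_mem hn this

theorem inner_RuH (α : MulAut RuH) : α ∈ Cfsg.Inn RuH := by
  obtain ⟨g, k, hk, hU, hX⟩ := normal_aut α
  set β := MulAut.conj g * α with hβ
  obtain ⟨rfl, hY⟩ := image_xy hk hU hX
  rw [pow_one] at hX
  have hfix := expand_fixed hX (image_H hU hX) hY
  have hA : β (hE [0]) = hE [0] := by rw [← eqW_spec genA_ok, hfix]
  have hB : β (hE [0, 1]) = hE [0, 1] := by rw [← eqW_spec genB_ok, hfix]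
  have htop := eq_top_of_gens (MonoidHom.eqLocus β.toMonoidHom (MonoidHom.id RuH)) hA hB hX
  have hone : β = 1 := MulEquiv.ext fun z => (show z ∈ MonoidHom.eqLocus β.toMonoidHom (MonoidHom.id RuH) from
    htop ▸ Subgroup.mem_top z)
  rw [show α = (MulAut.conj g)⁻¹ from eq_inv_of_mul_eq_one_right hone]
  exact inv_mem ⟨g, rfl⟩

theorem inner_transport {G G' : Type*} [Group G] [Group G'] (e : G ≃* G') (h : ∀ α : MulAut G', α ∈ Cfsg.Inn G')
    (α : MulAut G) : α ∈ Cfsg.Inn G := by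
  obtain ⟨g, hg⟩ := h ((e.symm.trans α).trans e)
  refine ⟨e.symm g, MulEquiv.ext fun z => e.injective ?_⟩
  have := congrArg (fun β : MulAut G' => β (e z)) hg
  simp only [MulAut.conj_apply, MulEquiv.trans_apply, MulEquiv.symm_apply_apply] at this
  rw [MulAut.conj_apply, map_mul, map_mul, map_inv, e.apply_symm_apply]
  exact this

/-- The outer automorphism group of Ru is trivial. -/
theorem card_out : Nat.card (Cfsg.Out Ru) = 1 := by
  have htop : Cfsg.Inn Ru = ⊤ := eq_top_iff.2 fun α _ => inner_transport ruEquiv inner_RuH α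
  show (Cfsg.Inn Ru).index = 1
  rw [htop, Subgroup.index_top]

end CfsgLib.RuLattice
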