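/-
A simple subgroup of index two in the stabiliser.
-/
import Cfsg.Agent.Lib.RuLattice.Character
import Cfsg.Agent.Lib.RuLattice.SmallAction
import Cfsg.Agent.Lib.RuLattice.Simplicity

set_option autoImplicit false
set_option maxRecDepth 100000

namespace CfsgLib.RuLattice

open Cfsg.Spor Finset MulAction

theorem card_stab_line : Nat.card (stabilizer RuH (0 : Fin 4060)) = 35942400 := by
  have := RuH_transitive
  have h := MulAction.index_stabilizer_of_transitive RuH (0 : Fin 4060)
  have h2 := Subgroup.card_mul_index (stabilizer RuH (0 : Fin 4060))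
  rw [h, Nat.card_fin, card_RuH] at h2
  omega

theorem card_stabs_one : Nat.card (stabs 1) = 35942400 := by
  rw [Nat.card_congr (Equiv.ofBijective stabHom stabHom_bij), card_stab_line]

/-- The subgroup of index two. -/
noncomputable def titsSub : Subgroup (stabs 1) := chi.ker

theorem card_titsSub : Nat.card titsSub = 17971200 := by
  have hr : chi.range = ⊤ := by
    refine eq_top_iff.2 fun z _ => ?_
    rcases (show ∀ z : Multiplicative (ZMod 2), z = 1 ∨ z = Multiplicative.ofAdd 1 by decide) z with rfl | rfl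
    · exact one_mem _
    · exact ⟨sB, chi_sB⟩
  have h2 := Subgroup.card_mul_index titsSub
  rw [titsSub, Subgroup.index_ker, hr, Subgroup.card_top, card_stabs_one] at h2
  have : Nat.card (Multiplicative (ZMod 2)) = 2 := by simp
  rw [this] at h2
  show Nat.card chi.ker = _
  omega

/-- A line entry of the forest. -/
def fT (i : ℕ) : ℕ := (subT >>> (27 * i)) % 4096

/-- A parent in the forest. -/
def fP (i : ℕ) : ℕ := (subT >>> (27 * i + 12)) % 4096

/-- A label in the forest. -/
def fG (i : ℕ) : ℕ := (subT >>> (27 * i + 24)) % 8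

/-- The class of a place. -/
def pCls (i : ℕ) : Fin 4 := if i < 10 then 0 else if i < 90 then 1 else if i < 730 then 2 else 3

/-- The root of a class. -/
def pRoot (k : Fin 4) : ℕ := ![0, 10, 90, 730] k

/-- The forest of the four suborbits. -/
def forestOK : Bool :=
  ((List.range 2).all fun k => let3 (subW.getD k []) && Nat.beq (wl (subW.getD k []) (sT 0)) (sT 0)) &&
    (List.range 1754).all fun i => Nat.blt (fT i) 4060 && smallB (fT i) &&
      (Nat.beq i (pRoot (pCls i)) || (Nat.blt (fP i) i && (pCls (fP i) == pCls i) && Nat.blt (fG i) 2 &&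
        Nat.beq (wl (subW.getD (fG i) []) (fT (fP i))) (fT i)))

/-- The place of a line in the forest. -/
def fPos (l : ℕ) : ℕ := (subP >>> (12 * l)) % 4096

theorem forest : forestOK = true := by decide +kernel

theorem forest_cover : ((List.range 4060).all fun l =>
    !(smallB l) || Nat.beq l (sT 0) || (Nat.blt (fPos l) 1754 && Nat.beq (fT (fPos l)) l)) = true := by decide +kernel

theorem forest_size : ((List.range 4).all fun k => Nat.beq ((List.range 4060).filter fun l =>
    smallB l && !(Nat.beq l (sT 0)) && Nat.beq (pCls (fPos l)).val k).length ([10, 80, 640, 1024].getD k 0)) = true := by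
  decide +kernel

theorem forest_mem : ∀ i < 1754, ∃ g : stabs 1, g • sPt = sPt ∧
    ((g : fourRu) • ln (4 * fT (pRoot (pCls i))) = ln (4 * fT i)) := by
  have h := forest
  simp only [forestOK, Bool.and_eq_true, Bool.or_eq_true, List.all_eq_true, List.mem_range, Nat.blt_eq,
    beq_iff_eq] at h
  intro i
  induction i using Nat.strong_induction_on with
  | _ i ih =>
    intro hi
    obtain ⟨⟨hlt, -⟩, hor⟩ := h.2 i hi
    rcases hor with hor | ⟨⟨⟨hp, hc⟩, hg⟩, ht⟩
    · exact ⟨1, one_smul _ _, by rw [← Nat.eq_of_beq_eq_true hor]; exact one_smul _ _⟩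
    obtain ⟨g, hgp, e⟩ := ih (fP i) hp (by omega)
    obtain ⟨h3, hfix⟩ := h.1 (fG i) hg
    obtain ⟨-, e2⟩ := wl_spec (let3_ok h3) (show fT (fP i) < 4060 from (h.2 (fP i) (by omega)).1.1)
    rw [Nat.eq_of_beq_eq_true ht] at e2
    refine ⟨⟨wA (subW.getD (fG i) []), stabs_one_eq ▸ wA_genAB h3⟩ * g, ?_, ?_⟩
    · rw [mul_smul, hgp]
      refine Subtype.ext (Fin.ext ?_)
      rw [small_coe_smul, wl_smul' (let3_ok h3)]
      exact Nat.eq_of_beq_eq_true hfix
    · rw [Subgroup.coe_mul, mul_smul, ← hc, e, e2]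
where
  wl_smul' {w : List ℕ} (hw : letOK w = true) {l : Fin 4060} : ((wA w • l : Fin 4060) : ℕ) = wl w l :=
    wl_smul hw l

/-- The class of a line. -/
def sCls (x : SmallL) : Fin 4 := pCls (fPos (x : Fin 4060))

theorem sCls_size (k : Fin 4) :
    (univ.filter fun x : SmallL => x ≠ sPt ∧ sCls x = k).card = ![10, 80, 640, 1024] k := by
  have h := forest_size
  simp only [List.all_eq_true, List.mem_range] at h
  have h := Nat.eq_of_beq_eq_true (h k k.2)
  rw [show ![10, 80, 640, 1024] k = [10, 80, 640, 1024].getD (k : ℕ) 0 by fin_cases k <;> rfl, ← h, ← card_fin_filter,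
    ← Finset.card_map (Function.Embedding.subtype _)]
  congr 1
  ext l
  simp only [mem_map, mem_filter, mem_univ, true_and, Function.Embedding.coe_subtype, Bool.and_eq_true, Nat.beq_eq,
    Bool.not_eq_true']
  constructor
  · rintro ⟨x, ⟨hx, rfl⟩, rfl⟩
    refine ⟨⟨x.2, ?_⟩, rfl⟩
    rw [← Bool.not_eq_true, Nat.beq_eq]
    exact fun e => hx (Subtype.ext (Fin.ext e))
  · rintro ⟨⟨hs, hne⟩, hk⟩
    refine ⟨⟨l, hs⟩, ⟨fun e => ?_, Fin.ext hk⟩, rfl⟩
    rw [← Bool.not_eq_true, Nat.beq_eq] at hne
    exact hne (congrArg (fun x : SmallL => ((x : Fin 4060) : ℕ)) e)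

theorem card_small : Nat.card SmallL = 1755 := by
  rw [Nat.card_eq_fintype_card, Fintype.card_subtype, card_fin_filter, small_count]

theorem sdiv_dec : ∀ s : Finset (Fin 4), s.Nonempty → (1 + ∑ k ∈ s, ![10, 80, 640, 1024] k) ∣ 1755 → s = univ := by
  decide

theorem small_normal_transitive (N : Subgroup (stabs 1)) [N.Normal] (hN : N ≠ ⊥) : ∀ x, ∃ n ∈ N, n • sPt = x := by
  have := small_transitive
  refine orbit_full sCls ![10, 80, 640, 1024] sCls_size ?_
    (by rw [← Nat.card_eq_fintype_card, card_small]; exact sdiv_dec) N ?_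
  · intro x y hx hy hxy
    have cov := forest_cover
    simp only [List.all_eq_true, List.mem_range, Bool.or_eq_true, Bool.not_eq_true', Bool.and_eq_true, Nat.blt_eq] at cov
    have key : ∀ z : SmallL, z ≠ sPt → ∃ g : stabs 1, g • sPt = sPt ∧
        ((g : fourRu) • ln (4 * fT (pRoot (sCls z))) = (z : Fin 4060)) := by
      intro z hz
      rcases cov (z : Fin 4060) (z : Fin 4060).2 with (hc | hc) | ⟨hlt, hc⟩
      · rw [z.2] at hc; simp at hc
      · exact absurd (Subtype.ext (Fin.ext (Nat.eq_of_beq_eq_true hc))) hz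
      · obtain ⟨g, hg, e⟩ := forest_mem _ hlt
        rw [Nat.eq_of_beq_eq_true hc, ln_four] at e
        exact ⟨g, hg, e⟩
    obtain ⟨a, ha, ea⟩ := key x hx
    obtain ⟨b, hb, eb⟩ := key y hy
    refine ⟨b * a⁻¹, by rw [mul_smul, inv_smul_eq_iff.2 ha.symm, hb], Subtype.ext ?_⟩
    rw [small_coe_smul, Subgroup.coe_mul, Subgroup.coe_inv, mul_smul, inv_smul_eq_iff.2 ea.symm, hxy, eb]
  · by_contra hcon
    push Not at hcon
    refine hN ((Subgroup.eq_bot_iff_forall _).2 fun n hn => Subtype.ext (small_faithful n.2 fun l hl => ?_))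
    obtain ⟨g, hg⟩ := small_transitive.exists_smul_eq sPt ⟨l, hl⟩
    have := hcon (g⁻¹ * n * g) (by simpa using Subgroup.Normal.conj_mem ‹_› n hn g⁻¹)
    rw [mul_smul, mul_smul, hg, inv_smul_eq_iff, hg] at this
    exact congrArg Subtype.val this

theorem words13 : scalarW (rep 13 [0, 1, 1]) 0 = true ∧ scalarW (rep 13 [0, 1, 1, 1, 1]) 0 = true := by decide +kernel

theorem closure_sAB : Subgroup.closure ({sA, sB} : Set (stabs 1)) = ⊤ := by
  refine eq_top_iff.2 fun g _ => ?_
  have h : genAB ≤ (Subgroup.closure ({sA, sB} : Set (stabs 1))).map (stabs 1).subtype := by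
    rw [genAB, Subgroup.closure_le]
    rintro x (rfl | rfl)
    · exact ⟨sA, Subgroup.subset_closure (Set.mem_insert _ _), rfl⟩
    · exact ⟨sB, Subgroup.subset_closure (Set.mem_insert_of_mem _ rfl), rfl⟩
  obtain ⟨y, hy, e⟩ := h (show (g : fourRu) ∈ genAB from stabs_one_eq ▸ g.2)
  rwa [← Subtype.ext e]

/-- A nontrivial normal subgroup of the stabiliser inside the subgroup of index two is all of it. -/
theorem titsSub_le {N : Subgroup (stabs 1)} [N.Normal] (hN : N ≠ ⊥) (hle : N ≤ titsSub) : titsSub ≤ N := by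
  have := small_transitive
  have hidx : N.index ∣ 20480 := by
    refine (index_dvd_stabilizer sPt N (small_normal_transitive N hN)).trans (dvd_of_eq ?_)
    have h := MulAction.index_stabilizer_of_transitive (stabs 1) sPt
    have h2 := Subgroup.card_mul_index (stabilizer (stabs 1) sPt)
    rw [h, card_small, card_stabs_one] at h2
    omega
  have h13 : ∀ (w : List ℕ) (x : stabs 1), scalarW (rep 13 w) 0 = true → wA w = (x : fourRu) → x ∈ N := by
    intro w x h e
    refine mem_of_coprime_index (p := 13) ?_ (Nat.Coprime.coprime_dvd_right hidx (by norm_num))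
    have e' := scalarW_spec h
    rw [wA_rep, e, pow_zero] at e'
    rw [show x ^ 13 = 1 from Subtype.ext e']
    exact one_mem _
  have h1 : sA * sB * sB ∈ N := h13 _ _ words13.1 (by simp [wA, eA, sA, sB, mul_assoc])
  have h2 : sA * sB * sB * (sB * sB) ∈ N := h13 _ _ words13.2 (by simp [wA, eA, sA, sB, mul_assoc])
  have hbb : sB * sB ∈ N := (Subgroup.mul_mem_cancel_left N h1).1 h2
  have ha : sA ∈ N := by
    rw [mul_assoc] at h1
    exact (Subgroup.mul_mem_cancel_right N hbb).1 h1
  have hcov : ∀ g : stabs 1, g ∈ N ∨ g * sB⁻¹ ∈ N := by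
    intro g
    have : QuotientGroup.mk' N g ∈ Subgroup.zpowers (QuotientGroup.mk' N sB) := by
      have hle' : Subgroup.closure ({sA, sB} : Set (stabs 1)) ≤
          (Subgroup.zpowers (QuotientGroup.mk' N sB)).comap (QuotientGroup.mk' N) := by
        rw [Subgroup.closure_le]
        rintro x (rfl | rfl)
        · show QuotientGroup.mk' N sA ∈ Subgroup.zpowers (QuotientGroup.mk' N sB)
          rw [show QuotientGroup.mk' N sA = 1 from (QuotientGroup.eq_one_iff _).2 ha]
          exact one_mem _
        · exact Subgroup.mem_zpowers _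
      exact hle' (closure_sAB ▸ Subgroup.mem_top g)
    obtain ⟨n, hn⟩ := Subgroup.mem_zpowers_iff.1 this
    have h2' : QuotientGroup.mk' N sB ^ (2 : ℤ) = 1 := by
      rw [← map_zpow, zpow_two]; exact (QuotientGroup.eq_one_iff _).2 hbb
    rw [← Int.emod_add_mul_ediv n 2, zpow_add, zpow_mul, h2', one_zpow, mul_one] at hn
    rcases Int.emod_two_eq_zero_or_one n with e | e <;> rw [e] at hn
    · rw [zpow_zero] at hn
      exact Or.inl ((QuotientGroup.eq_one_iff g).1 hn.symm)
    · rw [zpow_one] at hn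
      refine Or.inr ((QuotientGroup.eq_one_iff _).1 ?_)
      show QuotientGroup.mk' N (g * sB⁻¹) = 1
      rw [map_mul, map_inv, hn, mul_inv_cancel]
  intro t ht
  rcases hcov t with h | h
  · exact h
  · exfalso
    have := hle h
    rw [titsSub, MonoidHom.mem_ker, map_mul, map_inv, MonoidHom.mem_ker.1 ht, chi_sB] at this
    revert this; decide

set_option maxHeartbeats 1600000 in
theorem titsSub_simple : IsSimpleGroup titsSub := by
  have : Nontrivial titsSub := Finite.one_lt_card_iff_nontrivial.1 (by rw [card_titsSub]; norm_num)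
  refine ⟨fun M hM => or_iff_not_imp_left.2 fun hne => ?_⟩
  have hTn : titsSub.Normal := chi.normal_ker
  have hbbT : sB * sB ∈ titsSub := by
    show chi (sB * sB) = 1
    rw [map_mul, chi_sB]; decide
  set A : Subgroup (stabs 1) := M.map titsSub.subtype with hA
  set cB : stabs 1 →* stabs 1 := (MulAut.conj sB).toMonoidHom with hcB
  set B : Subgroup (stabs 1) := A.map cB with hB
  have hAle : A ≤ titsSub := Subgroup.map_subtype_le M
  have hBle : B ≤ titsSub := by
    rintro x ⟨a, ha, rfl⟩
    exact hTn.conj_mem a (hAle ha) sB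
  have hAinv : ∀ t ∈ titsSub, ∀ a ∈ A, t * a * t⁻¹ ∈ A := by
    rintro t ht _ ⟨m, hm, rfl⟩
    exact ⟨⟨t, ht⟩ * m * ⟨t, ht⟩⁻¹, hM.conj_mem m hm _, rfl⟩
  have hBinv : ∀ t ∈ titsSub, ∀ b ∈ B, t * b * t⁻¹ ∈ B := by
    rintro t ht _ ⟨a, ha, rfl⟩
    refine ⟨(sB⁻¹ * t * sB) * a * (sB⁻¹ * t * sB)⁻¹, hAinv _ ?_ a ha, ?_⟩
    · simpa using hTn.conj_mem t ht sB⁻¹
    · simp only [hcB, MulEquiv.coe_toMonoidHom, MulAut.conj_apply]; group
  have hswap1 : ∀ a ∈ A, sB * a * sB⁻¹ ∈ B := fun a ha => ⟨a, ha, rfl⟩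
  have hswap2 : ∀ b ∈ B, sB * b * sB⁻¹ ∈ A := by
    rintro _ ⟨a, ha, rfl⟩
    have := hAinv _ hbbT a ha
    convert this using 1
    simp only [hcB, MulEquiv.coe_toMonoidHom, MulAut.conj_apply]; group
  have normal_of : ∀ P : Subgroup (stabs 1), (∀ t ∈ titsSub, ∀ p ∈ P, t * p * t⁻¹ ∈ P) →
      (∀ p ∈ P, sB * p * sB⁻¹ ∈ P) → P.Normal := by
    intro P h1 h2
    constructor
    intro p hp g
    have hg : ∀ g : stabs 1, g ∈ titsSub ∨ g * sB⁻¹ ∈ titsSub := by
      intro g
      rcases (show ∀ z : Multiplicative (ZMod 2), z = 1 ∨ z = Multiplicative.ofAdd 1 by decide) (chi g) with h | h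
      · exact Or.inl h
      · refine Or.inr ?_
        show chi (g * sB⁻¹) = 1
        rw [map_mul, map_inv, h, chi_sB, mul_inv_cancel]
    rcases hg g with h | h
    · exact h1 g h p hp
    · have := h1 _ h _ (h2 p hp)
      convert this using 1
      group
  have hAne : A ≠ ⊥ := fun h => hne ((Subgroup.map_eq_bot_iff_of_injective _ titsSub.subtype_injective).1 h)
  by_cases hN : A ⊓ B = ⊥
  · exfalso
    have hP : (A ⊔ B).Normal := by
      refine normal_of _ (fun t ht p hp => ?_) (fun p hp => ?_)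
      · have : A ⊔ B ≤ (A ⊔ B).comap (MulAut.conj t).toMonoidHom :=
          sup_le (fun a ha => Subgroup.mem_sup_left (hAinv t ht a ha)) (fun b hb => Subgroup.mem_sup_right (hBinv t ht b hb))
        exact this hp
      · have : A ⊔ B ≤ (A ⊔ B).comap cB :=
          sup_le (fun a ha => Subgroup.mem_sup_right (hswap1 a ha)) (fun b hb => Subgroup.mem_sup_left (hswap2 b hb))
        exact this hp
    have hTle := titsSub_le (N := A ⊔ B) (fun h => hAne (le_bot_iff.1 (h ▸ le_sup_left))) (sup_le hAle hBle)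
    have hcomm : ∀ (a : A) (b : B), Commute (A.subtype a) (B.subtype b) := by
      intro a b
      show (a : stabs 1) * b = b * a
      have h1 : (a : stabs 1) * b * (a : stabs 1)⁻¹ * (b : stabs 1)⁻¹ ∈ A ⊓ B := by
        refine Subgroup.mem_inf.2 ⟨?_, B.mul_mem (hBinv _ (hAle a.2) _ b.2) (B.inv_mem b.2)⟩
        have := hAinv _ (hBle b.2) _ (inv_mem a.2)
        have h2 := mul_mem a.2 this
        simpa [mul_assoc] using h2
      rw [hN, Subgroup.mem_bot, mul_inv_eq_one, mul_inv_eq_iff_eq_mul] at h1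
      exact h1
    set f := A.subtype.noncommCoprod B.subtype hcomm with hf
    have hinj : Function.Injective f := by
      rw [injective_iff_map_eq_one]
      rintro ⟨a, b⟩ e
      have e' : (a : stabs 1) * b = 1 := e
      have : (a : stabs 1) ∈ A ⊓ B := ⟨a.2, by rw [eq_inv_of_mul_eq_one_left e']; exact B.inv_mem b.2⟩
      rw [hN, Subgroup.mem_bot] at this
      rw [this, one_mul] at e'
      exact Prod.ext (Subtype.ext this) (Subtype.ext e')
    have hrange : f.range = titsSub := by
      rw [hf, MonoidHom.noncommCoprod_range, Subgroup.range_subtype, Subgroup.range_subtype]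
      exact le_antisymm (sup_le hAle hBle) hTle
    have hc : Nat.card A * Nat.card B = 17971200 := by
      rw [← Nat.card_prod, Nat.card_congr (MonoidHom.ofInjective hinj).toEquiv, hrange, card_titsSub]
    rw [hB, Subgroup.card_map_of_injective (show Function.Injective cB from (MulAut.conj sB).injective)] at hc
    rcases Nat.lt_or_ge (Nat.card A) 4240 with h | h
    · nlinarith
    · nlinarith
  · have : (A ⊓ B).Normal := normal_of _ (fun t ht p hp => ⟨hAinv t ht p hp.1, hBinv t ht p hp.2⟩)
      (fun p hp => ⟨hswap2 p hp.2, hswap1 p hp.1⟩)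
    have hTle := (titsSub_le (N := A ⊓ B) hN (inf_le_left.trans hAle)).trans inf_le_left
    refine eq_top_iff.2 fun t _ => ?_
    obtain ⟨m, hm, e⟩ := hTle t.2
    rwa [← Subtype.ext e]

end CfsgLib.RuLattice
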